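import Mathlib
import Cfsg.Agent.H147.SzReal
import Cfsg.Agent.Lib.PSL2Torus
import Cfsg.Prelude.Def_GeometricClasses
import Cfsg.Agent.H906.Cover_m3
import Cfsg.Agent.H95.LSx.Sub
import Cfsg.Agent.S2112
import Cfsg.Agent.FastGrp
import Cfsg.Agent.Prune
set_option linter.all false
prune_inst 0x7ffea9fbcbfcabffdfff7fffae9eddfdffb93fffe6fff9cbffec61ff8b9f5b82cdc7638d8ffb12fc1f96c21414e87b83fffffeffe86ffc7ffffdfff41ffbffcffdf7b508519c88b40fbc0ff603f0778e7f3fffffffffffffffffffffffffffbeffbfffffffff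
open scoped Cfsg.Agent.FastGrp

-- part: H814/Wt
section
/-!
# Weight spaces of elementary abelian 2-groups (helper814)

`A` a finite additive group of exponent 2 with a perfect pairing `χ : A → A → F`, `Y : A → Matrix ι ι F` a representation:
the idempotents `E χ Y c`, their ranks, conjugation, restriction of commuting matrices.
-/

set_option autoImplicit false
set_option linter.unusedSectionVars false

namespace Cfsg.Agent.H814.Wt

open Matrix Module

universe u

section pair

variable {A : Type*} [AddCommGroup A] [Fintype A] {F : Type*} [Field F]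

/-- a perfect pairing of `A` with itself, with values `± 1` -/
structure Pair (χ : A → A → F) : Prop where
  add_left : ∀ c c' a, χ (c + c') a = χ c a * χ c' a
  add_right : ∀ c a a', χ c (a + a') = χ c a * χ c a'
  sq : ∀ c a, χ c a * χ c a = 1
  sum_left : ∀ a, a ≠ 0 → ∑ c, χ c a = 0
  sum_right : ∀ c, c ≠ 0 → ∑ a, χ c a = 0
  card : (Fintype.card A : F) ≠ 0
  two : ∀ a : A, a + a = 0

variable {χ : A → A → F}

theorem Pair.zero_right (h : Pair χ) (c : A) : χ c 0 = 1 := by
  have h1 := h.two 0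
  have h2 := h.add_right c 0 0
  rw [h1, h.sq] at h2
  exact h2

theorem Pair.zero_left (h : Pair χ) (a : A) : χ 0 a = 1 := by
  have h1 := h.two 0
  have h2 := h.add_left 0 0 a
  rw [h1, h.sq] at h2
  exact h2

theorem Pair.ne_zero (h : Pair χ) (c a : A) : χ c a ≠ 0 := by
  intro h0
  have := h.sq c a
  rw [h0, mul_zero] at this
  exact zero_ne_one this

/-- every additive character is one of the `χ c` -/
theorem Pair.exists_of_char (h : Pair χ) {κ : A → F} (hadd : ∀ a b, κ (a + b) = κ a * κ b)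
    (h0 : κ 0 = 1) : ∃ c, ∀ a, κ a = χ c a := by
  classical
  have h1 : ∑ c, ∑ a, χ c a * κ a = (Fintype.card A : F) := by
    rw [Finset.sum_comm]
    rw [Finset.sum_eq_single (0 : A)]
    · simp only [h.zero_right, h0, mul_one, Finset.sum_const, Finset.card_univ, nsmul_eq_mul]
    · intro b _ hb
      rw [← Finset.sum_mul, h.sum_left b hb, zero_mul]
    · intro hn
      exact absurd (Finset.mem_univ _) hn
  have h2 : ∃ c, ∑ a, χ c a * κ a ≠ 0 := by
    by_contra hcon
    push Not at hcon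
    rw [Finset.sum_eq_zero fun c _ => hcon c] at h1
    exact h.card h1.symm
  obtain ⟨c, hc⟩ := h2
  refine ⟨c, ?_⟩
  have h3 : ∀ b, χ c b * κ b = 1 := by
    intro b
    have h4 : (χ c b * κ b) * ∑ a, χ c a * κ a = ∑ a, χ c a * κ a := by
      rw [Finset.mul_sum]
      rw [← Equiv.sum_comp (Equiv.addLeft b) (fun a => χ c a * κ a)]
      apply Finset.sum_congr rfl
      intro a _
      rw [Equiv.coe_addLeft, h.add_right, hadd]
      ring
    have h5 : (χ c b * κ b - 1) * ∑ a, χ c a * κ a = 0 := by rw [sub_mul, h4, one_mul, sub_self]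
    rcases mul_eq_zero.1 h5 with h6 | h6
    · exact sub_eq_zero.1 h6
    · exact absurd h6 hc
  intro a
  have h4 := h3 a
  have h5 := h.sq c a
  calc κ a = (χ c a * χ c a) * κ a := by rw [h5, one_mul]
    _ = χ c a * (χ c a * κ a) := by ring
    _ = χ c a := by rw [h4, mul_one]

variable {ι : Type*} [Fintype ι] [DecidableEq ι]

/-- the weight idempotents -/
noncomputable def E (χ : A → A → F) (Y : A → Matrix ι ι F) (c : A) : Matrix ι ι F :=
  (Fintype.card A : F)⁻¹ • ∑ a, χ c a • Y a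

variable {Y : A → Matrix ι ι F}

theorem Y_mul_E (h : Pair χ) (hY : ∀ a b, Y (a + b) = Y a * Y b) (b c : A) : Y b * E χ Y c = χ c b • E χ Y c := by
  unfold E
  rw [Matrix.mul_smul, smul_comm (χ c b)]
  congr 1
  rw [Finset.mul_sum, Finset.smul_sum]
  rw [← Equiv.sum_comp (Equiv.addLeft b) (fun a => χ c b • χ c a • Y a)]
  apply Finset.sum_congr rfl
  intro a _
  rw [Equiv.coe_addLeft, hY, h.add_right, Matrix.mul_smul, smul_smul, ← mul_assoc, h.sq, one_mul]

theorem E_mul_E_self (h : Pair χ) (hY : ∀ a b, Y (a + b) = Y a * Y b) (c : A) : E χ Y c * E χ Y c = E χ Y c := by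
  have h1 : E χ Y c * E χ Y c = (Fintype.card A : F)⁻¹ • ∑ a, χ c a • (Y a * E χ Y c) := by
    conv_lhs => rw [E]
    rw [Matrix.smul_mul, Finset.sum_mul]
    simp only [Matrix.smul_mul]
    rfl
  rw [h1]
  simp only [Y_mul_E h hY, smul_smul, h.sq, one_smul, Finset.sum_const, Finset.card_univ]
  rw [← Nat.cast_smul_eq_nsmul F, smul_smul, inv_mul_cancel₀ h.card, one_smul]

theorem E_mul_E (h : Pair χ) (hY : ∀ a b, Y (a + b) = Y a * Y b) {c c' : A} (hc : c ≠ c') : E χ Y c * E χ Y c' = 0 := by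
  have h1 : E χ Y c * E χ Y c' = (Fintype.card A : F)⁻¹ • ∑ a, χ c a • (Y a * E χ Y c') := by
    conv_lhs => rw [E]
    rw [Matrix.smul_mul, Finset.sum_mul]
    simp only [Matrix.smul_mul]
  rw [h1]
  simp only [Y_mul_E h hY, smul_smul, ← h.add_left]
  rw [← Finset.sum_smul, h.sum_right (c + c'), zero_smul, smul_zero]
  intro h2
  apply hc
  have h3 := h.two c'
  have : c + c' = c' + c' := by rw [h2, h3]
  exact add_right_cancel this

theorem sum_E (h : Pair χ) (hY0 : Y 0 = 1) : ∑ c, E χ Y c = 1 := by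
  classical
  unfold E
  rw [← Finset.smul_sum, Finset.sum_comm]
  simp only [← Finset.sum_smul]
  rw [Finset.sum_eq_single (0 : A)]
  · simp only [h.zero_right, Finset.sum_const, Finset.card_univ, hY0, nsmul_eq_mul, mul_one]
    rw [smul_smul, inv_mul_cancel₀ h.card, one_smul]
  · intro b _ hb
    rw [h.sum_left b hb, zero_smul]
  · intro hn
    exact absurd (Finset.mem_univ _) hn

/-- conjugation -/
theorem conj_E (g : Matrix ι ι F) {L : A → A} (hL : Function.Bijective L) {m : A → F}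
    (hg : ∀ a, g * Y a = m a • (Y (L a) * g)) {c c' : A} (hc : ∀ a, χ c' (L a) = χ c a * m a) :
    g * E χ Y c = E χ Y c' * g := by
  unfold E
  rw [Matrix.mul_smul, Matrix.smul_mul]
  congr 1
  rw [Finset.mul_sum, Finset.sum_mul]
  rw [← Equiv.sum_comp (Equiv.ofBijective L hL) (fun a => χ c' a • Y a * g)]
  apply Finset.sum_congr rfl
  intro a _
  rw [Equiv.ofBijective_apply, Matrix.mul_smul, hg, hc, Matrix.smul_mul, smul_smul]

/-- a matrix commuting with all `Y a` commutes with the idempotents -/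
theorem comm_E {g : Matrix ι ι F} (hg : ∀ a, g * Y a = Y a * g) (c : A) : g * E χ Y c = E χ Y c * g := by
  unfold E
  rw [Matrix.mul_smul, Matrix.smul_mul, Finset.mul_sum, Finset.sum_mul]
  congr 1
  apply Finset.sum_congr rfl
  intro a _
  rw [Matrix.mul_smul, hg, Matrix.smul_mul]

end pair

/-! ### idempotents -/

section idem

variable {F : Type*} [Field F] {ι : Type*} [Fintype ι] [DecidableEq ι]

/-- the sum of the ranks -/
theorem sum_rank {κ : Type*} [Fintype κ] {e : κ → Matrix ι ι F} (h1 : ∀ i, e i * e i = e i)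
    (h2 : ∀ i j, i ≠ j → e i * e j = 0) (h3 : ∑ i, e i = 1) : ∑ i, (e i).rank = Fintype.card ι := by
  classical
  let f : (ι → F) ≃ₗ[F] ((i : κ) → LinearMap.range (e i).mulVecLin) :=
    { toFun := fun v i => ⟨(e i).mulVecLin v, LinearMap.mem_range_self _ v⟩
      map_add' := fun v w => by
        funext i
        apply Subtype.ext
        show (e i).mulVecLin (v + w) = (e i).mulVecLin v + (e i).mulVecLin w
        rw [map_add]
      map_smul' := fun c v => by
        funext i
        apply Subtype.ext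
        show (e i).mulVecLin (c • v) = c • (e i).mulVecLin v
        rw [map_smul]
      invFun := fun w => ∑ i, (w i : ι → F)
      left_inv := fun v => by
        show ∑ i, (e i).mulVecLin v = v
        rw [← LinearMap.sum_apply]
        have : ∑ i, (e i).mulVecLin = (∑ i, e i).mulVecLin := by
          apply LinearMap.ext
          intro v
          rw [LinearMap.sum_apply, Matrix.mulVecLin_apply, Matrix.sum_mulVec]
          rfl
        rw [this, h3]
        simp
      right_inv := fun w => by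
        funext i
        apply Subtype.ext
        show (e i).mulVecLin (∑ j, (w j : ι → F)) = w i
        rw [map_sum, Finset.sum_eq_single i]
        · obtain ⟨v, hv⟩ := (w i).2
          rw [← hv, Matrix.mulVecLin_apply, Matrix.mulVecLin_apply, Matrix.mulVec_mulVec, h1]
        · intro j _ hj
          obtain ⟨v, hv⟩ := (w j).2
          rw [← hv, Matrix.mulVecLin_apply, Matrix.mulVecLin_apply, Matrix.mulVec_mulVec, h2 i j hj.symm,
            Matrix.zero_mulVec]
        · intro hn
          exact absurd (Finset.mem_univ _) hn }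
  have h4 := f.finrank_eq
  rw [Module.finrank_fintype_fun_eq_card, Module.finrank_pi_fintype] at h4
  rw [h4]
  rfl

theorem rank_conj {g : (Matrix ι ι F)ˣ} {e e' : Matrix ι ι F} (h : (g : Matrix ι ι F) * e = e' * g) :
    e.rank = e'.rank := by
  have hu : IsUnit (g : Matrix ι ι F).det := (Matrix.isUnit_iff_isUnit_det _).1 g.isUnit
  rw [← Matrix.rank_mul_eq_right_of_isUnit_det (g : Matrix ι ι F) e hu, h,
    Matrix.rank_mul_eq_left_of_isUnit_det (g : Matrix ι ι F) e' hu]

theorem eq_zero_of_rank {e : Matrix ι ι F} (h : e.rank = 0) : e = 0 := by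
  have h1 : LinearMap.range e.mulVecLin = ⊥ := Submodule.finrank_eq_zero.1 h
  have h2 := LinearMap.range_eq_bot.1 h1
  apply Matrix.ext_of_mulVec_single
  intro i
  have h3 := LinearMap.congr_fun h2 (Pi.single i 1)
  rw [Matrix.mulVecLin_apply, LinearMap.zero_apply] at h3
  rw [h3, Matrix.zero_mulVec]

/-- the image -/
abbrev W (e : Matrix ι ι F) : Submodule F (ι → F) := LinearMap.range e.mulVecLin

theorem mem_W {e : Matrix ι ι F} (he : e * e = e) {v : ι → F} : v ∈ W e ↔ e *ᵥ v = v := by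
  constructor
  · rintro ⟨w, rfl⟩
    rw [Matrix.mulVecLin_apply, Matrix.mulVec_mulVec, he]
  · intro h
    exact ⟨v, h⟩

theorem finrank_W (e : Matrix ι ι F) : finrank F (W e) = e.rank := rfl

/-- the restriction to the image of an idempotent -/
noncomputable def res (e B : Matrix ι ι F) : W e →ₗ[F] W e :=
  ((e * B).mulVecLin.codRestrict (W e) (fun v => ⟨B *ᵥ v, by
    rw [Matrix.mulVecLin_apply, Matrix.mulVecLin_apply, Matrix.mulVec_mulVec]⟩)).comp (W e).subtype

theorem res_apply (e B : Matrix ι ι F) (w : W e) : ((res e B w : W e) : ι → F) = (e * B) *ᵥ (w : ι → F) := rfl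

variable {e : Matrix ι ι F}

theorem res_smul (c : F) (B : Matrix ι ι F) : res e (c • B) = c • res e B := by
  apply LinearMap.ext
  intro w
  apply Subtype.ext
  rw [LinearMap.smul_apply, Submodule.coe_smul, res_apply, res_apply, Matrix.mul_smul, Matrix.smul_mulVec]

theorem res_one (he : e * e = e) : res e 1 = 1 := by
  apply LinearMap.ext
  intro w
  apply Subtype.ext
  rw [res_apply, Matrix.mul_one, Module.End.one_apply]
  exact (mem_W he).1 w.2

theorem eq_of_res (he : e * e = e) {B C : Matrix ι ι F} (hB : B * e = e * B) (hC : C * e = e * C)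
    (h : res e B = res e C) : B * e = C * e := by
  apply Matrix.ext_of_mulVec_single
  intro i
  have h1 := LinearMap.congr_fun h ⟨e *ᵥ Pi.single i 1, LinearMap.mem_range_self _ _⟩
  have h2 := congrArg Subtype.val h1
  rw [res_apply, res_apply] at h2
  simp only [Matrix.mulVec_mulVec] at h2
  rw [← hB, ← hC, Matrix.mul_assoc, Matrix.mul_assoc, he] at h2
  exact h2

/-- on a line everything is scalar -/
theorem scalar_of_rank_one (he : e * e = e) (hr : e.rank = 1) {B : Matrix ι ι F} (hB : B * e = e * B) :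
    ∃ d : F, B * e = d • e := by
  have h1 : finrank F (W e) = 1 := hr
  obtain ⟨v, hv, hspan⟩ := finrank_eq_one_iff'.1 h1
  obtain ⟨d, hd⟩ := hspan (res e B v)
  refine ⟨d, ?_⟩
  have h2 : res e B = res e (d • (1 : Matrix ι ι F)) := by
    rw [res_smul, res_one he]
    apply LinearMap.ext
    intro w
    obtain ⟨c, hc⟩ := hspan w
    rw [← hc, map_smul, ← hd, LinearMap.smul_apply, Module.End.one_apply, smul_comm]
  have h3 := eq_of_res he hB (by rw [Matrix.smul_mul, Matrix.mul_smul, Matrix.one_mul, Matrix.mul_one]) h2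
  rw [h3, Matrix.smul_mul, Matrix.one_mul]

theorem trace_zero_of_anti (h2 : (2 : F) ≠ 0) {n : Type*} [Fintype n] [DecidableEq n] {x y : Matrix n n F}
    (hy : IsUnit y) (hxy : x * y = -(y * x)) : x.trace = 0 := by
  obtain ⟨u, rfl⟩ := hy
  have h1 : x = -((u : Matrix n n F) * x * ((u⁻¹ : (Matrix n n F)ˣ) : Matrix n n F)) := by
    rw [← neg_mul, ← hxy, mul_assoc, Units.mul_inv, mul_one]
  have h3 : x.trace = -x.trace := by
    conv_lhs => rw [h1]
    rw [Matrix.trace_neg, Matrix.trace_mul_comm, ← mul_assoc, Units.inv_mul, one_mul]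
  have h4 : (2 : F) * x.trace = 0 := by linear_combination h3
  exact (mul_eq_zero.1 h4).resolve_left h2

end idem

end Cfsg.Agent.H814.Wt
end

-- part: H814/Lift
section
/-!
# Lifts of root groups in central extensions (helper814)
-/

set_option autoImplicit false

namespace Cfsg.Agent.H814.Lift

open Subgroup
open scoped commutatorElement

variable {P T : Type*} [Group P] [Group T] {π : P →* T}

theorem central (hc : π.ker ≤ center P) {k : P} (hk : π k = 1) (g : P) : g * k = k * g :=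
  mem_center_iff.1 (hc ((MonoidHom.mem_ker).2 hk)) g

/-- commutators only depend on the images -/
theorem comm_congr (hc : π.ker ≤ center P) {a a' b b' : P} (ha : π a = π a') (hb : π b = π b') : ⁅a, b⁆ = ⁅a', b'⁆ := by
  obtain ⟨k, rfl⟩ : ∃ k, a' = a * k := ⟨a⁻¹ * a', by group⟩
  obtain ⟨l, rfl⟩ : ∃ l, b' = b * l := ⟨b⁻¹ * b', by group⟩
  have hk : π k = 1 := by rw [map_mul] at ha; exact (left_eq_mul.1 ha)
  have hl : π l = 1 := by rw [map_mul] at hb; exact (left_eq_mul.1 hb)
  have h1 := central hc hk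
  have h2 := central hc hl
  rw [commutatorElement_def, commutatorElement_def, mul_inv_rev, mul_inv_rev]
  calc a * b * a⁻¹ * b⁻¹ = a * b * (l * l⁻¹) * (k * k⁻¹) * a⁻¹ * b⁻¹ := by group
    _ = a * (b * l) * (l⁻¹ * k) * k⁻¹ * a⁻¹ * b⁻¹ := by group
    _ = a * (b * l) * (k * l⁻¹) * k⁻¹ * a⁻¹ * b⁻¹ := by rw [h1]
    _ = a * ((b * l) * k) * (l⁻¹ * k⁻¹ * a⁻¹) * b⁻¹ := by group
    _ = a * (k * (b * l)) * (l⁻¹ * k⁻¹ * a⁻¹) * b⁻¹ := by rw [h1]
    _ = a * k * (b * l) * (l⁻¹ * (k⁻¹ * a⁻¹)) * b⁻¹ := by group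
    _ = a * k * (b * l) * ((k⁻¹ * a⁻¹) * l⁻¹) * b⁻¹ := by
        have : ∀ g, l⁻¹ * g = g * l⁻¹ := fun g => (((show Commute g l from h2 g).inv_right).eq).symm
        rw [this]
    _ = a * k * (b * l) * (k⁻¹ * a⁻¹) * (l⁻¹ * b⁻¹) := by group

/-- conjugation only depends on the image -/
theorem conj_congr (hc : π.ker ≤ center P) {a a' : P} (ha : π a = π a') (g : P) : a * g * a⁻¹ = a' * g * a'⁻¹ := by
  have h1 := comm_congr hc ha (rfl : π g = π g)
  rw [commutatorElement_def, commutatorElement_def] at h1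
  exact mul_right_cancel h1

/-- bimultiplicativity of commutators with central values -/
theorem comm_mul_right {a b c : P} (h : ∀ g, g * ⁅a, c⁆ = ⁅a, c⁆ * g) : ⁅a, b * c⁆ = ⁅a, b⁆ * ⁅a, c⁆ := by
  have h1 := h b⁻¹
  calc ⁅a, b * c⁆ = ⁅a, b⁆ * (b * ⁅a, c⁆ * b⁻¹) := by simp only [commutatorElement_def]; group
    _ = _ := by rw [h b, mul_inv_cancel_right]

theorem comm_mul_left {a b c : P} (h : ∀ g, g * ⁅b, c⁆ = ⁅b, c⁆ * g) : ⁅a * b, c⁆ = ⁅b, c⁆ * ⁅a, c⁆ := by
  calc ⁅a * b, c⁆ = (a * ⁅b, c⁆ * a⁻¹) * ⁅a, c⁆ := by simp only [commutatorElement_def]; group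
    _ = _ := by rw [h a, mul_inv_cancel_right]

section field

variable {K : Type*} [Field K]

/-- canonical lifts of a root group -/
theorem exists_hom (hπ : Function.Surjective π) (hc : π.ker ≤ center P) {X : K → T}
    (hX : ∀ s t, X (s + t) = X s * X t) (hcomm : ∀ (s t : K) (p q : P), π p = X s → π q = X t → p * q = q * p)
    {h : P} {lam : K} (hlam : lam ≠ 1) (hh : ∀ t, π h * X t * (π h)⁻¹ = X (lam * t)) :
    ∃ Y : K → P, (∀ t, π (Y t) = X t) ∧ (∀ s t, Y (s + t) = Y s * Y t) ∧ ∀ t, h * Y t * h⁻¹ = Y (lam * t) := by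
  have hμ : (1 - lam) ≠ 0 := fun h0 => hlam (by linear_combination -h0)
  set μ := (1 - lam)⁻¹ with hμd
  choose l hl using hπ
  have hX0 : X 0 = 1 := by
    have := hX 0 0
    rw [add_zero] at this
    exact (left_eq_mul.1 this)
  have hXn : ∀ t, X (-t) = (X t)⁻¹ := by
    intro t
    rw [eq_inv_iff_mul_eq_one, ← hX, neg_add_cancel, hX0]
  have e1 : ∀ t, π ⁅l (X (μ * t)), h⁆ = X t := by
    intro t
    rw [map_commutatorElement, hl, commutatorElement_def]
    have h1 : X (μ * t) * π h * (X (μ * t))⁻¹ * (π h)⁻¹ = X (μ * t) * (π h * X (μ * t) * (π h)⁻¹)⁻¹ := by group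
    rw [h1, hh, ← hXn, ← hX]
    congr 1
    have : (1 - lam) * μ = 1 := mul_inv_cancel₀ hμ
    linear_combination t * this
  refine ⟨fun t => ⁅l (X (μ * t)), h⁆, e1, ?_, ?_⟩
  · intro s t
    have h1 : ⁅l (X (μ * (s + t))), h⁆ = ⁅l (X (μ * s)) * l (X (μ * t)), h⁆ := by
      apply comm_congr hc _ rfl
      rw [map_mul, hl, hl, hl, mul_add, hX]
    have h2 : l (X (μ * s)) * ⁅l (X (μ * t)), h⁆ = ⁅l (X (μ * t)), h⁆ * l (X (μ * s)) :=
      hcomm _ _ _ _ (hl _) (e1 t)
    have h3 : ⁅l (X (μ * s)), h⁆ * ⁅l (X (μ * t)), h⁆ = ⁅l (X (μ * t)), h⁆ * ⁅l (X (μ * s)), h⁆ :=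
      hcomm _ _ _ _ (e1 s) (e1 t)
    show ⁅l (X (μ * (s + t))), h⁆ = ⁅l (X (μ * s)), h⁆ * ⁅l (X (μ * t)), h⁆
    rw [h1, h3]
    calc ⁅l (X (μ * s)) * l (X (μ * t)), h⁆
        = (l (X (μ * s)) * ⁅l (X (μ * t)), h⁆ * (l (X (μ * s)))⁻¹) * ⁅l (X (μ * s)), h⁆ := by
          simp only [commutatorElement_def]; group
      _ = _ := by rw [h2, mul_inv_cancel_right]
  · intro t
    have h1 : h * ⁅l (X (μ * t)), h⁆ * h⁻¹ = ⁅h * l (X (μ * t)) * h⁻¹, h⁆ := by
      simp only [commutatorElement_def]; group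
    show h * ⁅l (X (μ * t)), h⁆ * h⁻¹ = _
    rw [h1]
    apply comm_congr hc _ rfl
    rw [map_mul, map_mul, map_inv, hl, hl, hh]
    congr 1
    ring

/-- uniqueness of equivariant lifts -/
theorem uniq (hc : π.ker ≤ center P) {Y Z : K → P} (hYZ : ∀ t, π (Y t) = π (Z t))
    (hY : ∀ s t, Y (s + t) = Y s * Y t) (hZ : ∀ s t, Z (s + t) = Z s * Z t) {h h' : P} (hh : π h = π h') {lam : K}
    (hlam : lam ≠ 1) (hYh : ∀ t, h * Y t * h⁻¹ = Y (lam * t)) (hZh : ∀ t, h' * Z t * h'⁻¹ = Z (lam * t)) (t : K) :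
    Y t = Z t := by
  have hZh' : ∀ t, h * Z t * h⁻¹ = Z (lam * t) := fun t => by rw [conj_congr hc hh, hZh]
  set κ : K → P := fun t => Z t * (Y t)⁻¹ with hκ
  have k1 : ∀ t, π (κ t) = 1 := fun t => by rw [hκ]; simp only; rw [map_mul, map_inv, hYZ, mul_inv_cancel]
  have k2 : ∀ s t, κ (s + t) = κ s * κ t := by
    intro s t
    have h1 : κ (s + t) = Z s * κ t * (Y s)⁻¹ := by
      simp only [hκ]
      rw [hZ, hY, mul_inv_rev]
      group
    rw [h1, central hc (k1 t), mul_assoc, ← central hc (k1 t)]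
  have k3 : ∀ t, κ (lam * t) = κ t := by
    intro t
    have h1 : κ (lam * t) = h * κ t * h⁻¹ := by
      simp only [hκ]
      rw [← hYh, ← hZh']
      group
    rw [h1, central hc (k1 t), mul_inv_cancel_right]
  have k4 : ∀ t, κ t = 1 := by
    intro t
    have h1 : (1 - lam) ≠ 0 := fun h0 => hlam (by linear_combination -h0)
    have h2 := k2 ((1 - lam) * ((1 - lam)⁻¹ * t)) (lam * ((1 - lam)⁻¹ * t))
    rw [k3, ← add_mul, sub_add_cancel, one_mul] at h2
    have h3 : (1 - lam) * ((1 - lam)⁻¹ * t) = t := by rw [← mul_assoc, mul_inv_cancel₀ h1, one_mul]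
    rw [h3] at h2
    exact right_eq_mul.1 h2
  have h5 := k4 t
  simp only [hκ] at h5
  exact (mul_inv_eq_one.1 h5).symm

/-- conjugation of equivariant lifts -/
theorem conj_lift (hc : π.ker ≤ center P) {Y Z : K → P} {g : P} {ν : K} (hYZ : ∀ t, π (g * Y t * g⁻¹) = π (Z (ν * t)))
    (hY : ∀ s t, Y (s + t) = Y s * Y t) (hZ : ∀ s t, Z (s + t) = Z s * Z t) {h h' : P} {lam : K} (hlam : lam ≠ 1)
    (hYh : ∀ t, h * Y t * h⁻¹ = Y (lam * t)) (hZh : ∀ t, h' * Z t * h'⁻¹ = Z (lam * t))
    (hh : π g * π h * (π g)⁻¹ = π h') (t : K) : g * Y t * g⁻¹ = Z (ν * t) := by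
  refine uniq (π := π) hc (Y := fun t => g * Y t * g⁻¹) (Z := fun t => Z (ν * t)) hYZ ?_ ?_ (h := g * h * g⁻¹)
    (h' := h') (by rw [map_mul, map_mul, map_inv, hh]) hlam ?_ ?_ t
  · intro s t
    rw [hY]
    group
  · intro s t
    rw [mul_add, hZ]
  · intro t
    rw [← hYh]
    group
  · intro t
    rw [hZh]
    congr 1
    ring

end field

end Cfsg.Agent.H814.Lift
end

-- part: H814/PRep
section
/-!
# Representations of a central extension whose kernel acts by signs (helper814)
-/

set_option autoImplicit false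
set_option linter.unusedSectionVars false

namespace Cfsg.Agent.H814

open Subgroup Matrix
open scoped commutatorElement

/-- `φ : P → G` onto, `ρ` faithful, the kernel of `φ` acts by the scalars `± 1`. -/
structure PRep {P G : Type*} [Group P] [Group G] {ι : Type*} [Fintype ι] [DecidableEq ι] {F : Type*} [Field F]
    (φ : P →* G) (ρ : P →* GL ι F) : Prop where
  surj : Function.Surjective φ
  inj : Function.Injective ρ
  ker : ∀ k, φ k = 1 → ∃ s : F, s * s = 1 ∧ ((ρ k : GL ι F) : Matrix ι ι F) = s • (1 : Matrix ι ι F)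
  ne : Nonempty ι

namespace PRep

variable {P G : Type*} [Group P] [Group G] {ι : Type*} [Fintype ι] [DecidableEq ι] {F : Type*} [Field F]
  {φ : P →* G} {ρ : P →* GL ι F} (R : PRep φ ρ)
include R

/-- the matrix of an element -/
theorem ker_le : φ.ker ≤ center P := by
  intro k hk
  obtain ⟨s, -, hs⟩ := R.ker k hk
  rw [mem_center_iff]
  intro g
  apply R.inj
  apply Units.ext
  rw [map_mul, map_mul, Units.val_mul, Units.val_mul, hs, Matrix.mul_smul, Matrix.smul_mul, Matrix.mul_one, Matrix.one_mul]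

theorem smul_inj {s t : F} (h : s • (1 : Matrix ι ι F) = t • (1 : Matrix ι ι F)) : s = t := by
  obtain ⟨i⟩ := R.ne
  have := congrFun (congrFun h i) i
  simpa using this

theorem exists_sign {A : Type*} [AddZeroClass A] {f : A → P} (h1 : ∀ a, φ (f a) = 1) (h2 : ∀ a b, f (a + b) = f a * f b) :
    ∃ s : A → F, s 0 = 1 ∧ (∀ a b, s (a + b) = s a * s b) ∧
      ∀ a, ((ρ (f a) : GL ι F) : Matrix ι ι F) = s a • (1 : Matrix ι ι F) := by
  choose s hs1 hs2 using fun a => R.ker (f a) (h1 a)
  refine ⟨s, ?_, ?_, hs2⟩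
  · have h0 : f 0 = 1 := by
      have := h2 0 0
      rw [add_zero] at this
      exact left_eq_mul.1 this
    apply R.smul_inj
    rw [← hs2, h0, map_one, Units.val_one, one_smul]
  · intro a b
    apply R.smul_inj
    rw [← hs2, h2, map_mul, Units.val_mul, hs2, hs2, Matrix.smul_mul, Matrix.one_mul, smul_smul]

theorem comm_of {a b : P} (h : φ a * φ b = φ b * φ a) : φ ⁅a, b⁆ = 1 := by
  rw [map_commutatorElement, commutatorElement_eq_one_iff_mul_comm]
  exact h

/-- commutators of commuting images are central -/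
theorem comm_central {a b : P} (h : φ a * φ b = φ b * φ a) (g : P) : g * ⁅a, b⁆ = ⁅a, b⁆ * g :=
  Lift.central R.ker_le (R.comm_of h) g

end PRep

/-! ### characters of fields of characteristic two -/

section psi

variable {K : Type*} [Field K] [Fintype K] (hK : CharP K 2) {F : Type*} [Field F]

include hK in
theorem exists_psi (h2 : (2 : F) ≠ 0) : ∃ ψ : K → F, (∀ a b, ψ (a + b) = ψ a * ψ b) ∧ (∀ a, ψ a = 1 ∨ ψ a = -1) ∧
    (∃ a, ψ a = -1) ∧ Wt.Pair fun c a => ψ (c * a) := by
  classical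
  let _ : Algebra (ZMod 2) K := ZMod.algebra K 2
  let t : K → ZMod 2 := fun a => Algebra.trace (ZMod 2) K a
  have ht : ∀ a b, t (a + b) = t a + t b := fun a b => map_add _ a b
  obtain ⟨a1, ha1⟩ := Algebra.trace_surjective (ZMod 2) K 1
  have hz : ∀ x y : ZMod 2, ((-1 : F)) ^ (x + y).val = (-1) ^ x.val * (-1) ^ y.val := by
    intro x y
    have h3 : ∀ x y : ZMod 2, (x + y).val % 2 = (x.val + y.val) % 2 := by decide
    rw [← pow_add, neg_one_pow_eq_pow_mod_two, h3, ← neg_one_pow_eq_pow_mod_two]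
  have h1 : ∀ a b, (-1 : F) ^ (t (a + b)).val = (-1) ^ (t a).val * (-1) ^ (t b).val := fun a b => by rw [ht, hz]
  have hpm : ∀ a, (-1 : F) ^ (t a).val = 1 ∨ (-1 : F) ^ (t a).val = -1 := fun a => neg_one_pow_eq_or F _
  have hm1 : (-1 : F) ^ (t a1).val = -1 := by
    have : t a1 = 1 := ha1
    rw [this, show (1 : ZMod 2).val = 1 from rfl, pow_one]
  have two : ∀ a : K, a + a = 0 := fun a => CharTwo.add_self_eq_zero a
  have hsum : ∀ c : K, c ≠ 0 → ∑ a, (-1 : F) ^ (t (c * a)).val = 0 := by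
    intro c hc
    have h3 : ∑ a, (-1 : F) ^ (t (c * a)).val = -∑ a, (-1 : F) ^ (t (c * a)).val := by
      conv_lhs => rw [← Equiv.sum_comp (Equiv.addRight (c⁻¹ * a1))]
      rw [← Finset.sum_neg_distrib]
      apply Finset.sum_congr rfl
      intro a _
      rw [Equiv.coe_addRight, mul_add, ← mul_assoc c, mul_inv_cancel₀ hc, one_mul, h1, hm1]
      ring
    have h4 : (2 : F) * ∑ a, (-1 : F) ^ (t (c * a)).val = 0 := by linear_combination h3
    exact (mul_eq_zero.1 h4).resolve_left h2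
  refine ⟨fun a => (-1) ^ (t a).val, h1, hpm, ⟨a1, hm1⟩, ?_⟩
  refine ⟨fun c c' a => ?_, fun c a a' => ?_, fun c a => ?_, fun a ha => ?_, hsum, ?_, two⟩
  · simp only
    rw [add_mul, h1]
  · simp only
    rw [mul_add, h1]
  · simp only
    rw [← h1, two]
    have : t 0 = 0 := map_zero _
    rw [this, ZMod.val_zero, pow_zero]
  · simp only [mul_comm _ a]
    exact hsum a ha
  · obtain ⟨n, -, hn⟩ := FiniteField.card K 2
    rw [hn]
    push_cast
    exact pow_ne_zero _ h2

end psi

/-! ### the field with eight elements -/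

section eight

variable {K : Type*} [Field K] [Fintype K] (hK : Fintype.card K = 8)

include hK in
theorem charP_of_eight : CharP K 2 := by
  obtain ⟨p, hp⟩ := CharP.exists K
  obtain ⟨n, hpp, hn⟩ := FiniteField.card K p
  have h2 : p ∣ 2 ^ 3 := by
    rw [show (2 : ℕ) ^ 3 = 8 by norm_num, ← hK, hn]
    exact dvd_pow_self p n.ne_zero
  have h3 : p = 2 := (Nat.prime_dvd_prime_iff_eq hpp Nat.prime_two).1 (hpp.dvd_of_dvd_pow h2)
  rwa [h3] at hp

include hK in
theorem eight_trivial {M : Type*} [Group M] {f : K → M} (hadd : ∀ x y, f (x + y) = f x * f y)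
    (hinv : ∀ x, x ≠ 0 → f x⁻¹ = f x) (h1 : f 1 = 1) (x : K) : f x = 1 := by
  have hch := charP_of_eight hK
  have two : ∀ a : K, a + a = 0 := fun a => CharTwo.add_self_eq_zero a
  have htwo : (2 : K) = 0 := CharTwo.two_eq_zero
  have f0 : f 0 = 1 := by
    have := hadd 0 0
    rw [add_zero] at this
    exact left_eq_mul.1 this
  have fsq : ∀ x, f x * f x = 1 := fun x => by rw [← hadd, two, f0]
  have key : ∀ x : K, x ^ 3 = x + 1 → f x = 1 := by
    intro x hx
    have k1 : ∀ y : K, y ^ 3 = y + 1 → f y = f (y ^ 2) := by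
      intro y hy
      have hy0 : y ≠ 0 := by
        rintro rfl
        rw [zero_pow three_ne_zero, zero_add] at hy
        exact zero_ne_one hy
      have h3 : y⁻¹ = y ^ 2 + 1 := by
        apply inv_eq_of_mul_eq_one_right
        linear_combination hy + y * htwo
      rw [← hinv y hy0, h3, hadd, h1, mul_one]
    have hx2 : (x ^ 2) ^ 3 = x ^ 2 + 1 := by
      have : (x ^ 2) ^ 3 = (x ^ 3) ^ 2 := by ring
      rw [this, hx]
      linear_combination x * htwo
    have e1 := k1 x hx
    have e2 := k1 (x ^ 2) hx2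
    have e3 : (x ^ 2) ^ 2 = x ^ 2 + x := by linear_combination x * hx
    rw [e3, hadd, ← e1, fsq] at e2
    exact e2
  by_cases hx0 : x = 0
  · rw [hx0, f0]
  by_cases hx1 : x = 1
  · rw [hx1, h1]
  have h7 : x ^ 7 = 1 := by
    have := FiniteField.pow_card_sub_one_eq_one x hx0
    rwa [hK] at this
  have h8 : (x - 1) * ((x ^ 3 - (x + 1)) * (x ^ 3 + x ^ 2 + 1)) = 0 := by
    linear_combination h7 - (x ^ 4 + x ^ 5 - x ^ 3 - x) * htwo + (1 - x - x ^ 3 + x ^ 4) * htwo
  rcases mul_eq_zero.1 h8 with h | h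
  · exact absurd (sub_eq_zero.1 h) hx1
  rcases mul_eq_zero.1 h with h | h
  · exact key x (sub_eq_zero.1 h)
  · have h3 : (x⁻¹) ^ 3 = x⁻¹ + 1 := by
      have h5 : x * x⁻¹ = 1 := mul_inv_cancel₀ hx0
      field_simp
      linear_combination -h + htwo
    rw [← inv_inv x, hinv _ (inv_ne_zero hx0)]
    exact key _ h3

end eight

end Cfsg.Agent.H814
end

-- part: H814/SzEight
section
/-!
# Projective representations of `Sz(8)` of degree at most 12 in odd characteristic (helper814)
-/

set_option autoImplicit false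
set_option linter.unusedSectionVars false

namespace Cfsg.Agent.H814.Sz8

open Subgroup Matrix Cfsg.Agent.H814.Wt Cfsg.Agent.LieRecognition.SzMatrix
open scoped commutatorElement

variable {K : Type*} [Field K] [Fintype K] {θ : K →+* K} {e : ℕ} (H : Good K θ e)
variable {P : Type*} [Group P] {ι : Type*} [Fintype ι] [DecidableEq ι] {F : Type*} [Field F]
variable {φ : P →* ↥(Cfsg.Lie.Sz K e)} {ρ : P →* GL ι F}

/-- the weight structure on a Sylow 2-subgroup -/
structure Data (H : Good K θ e) (φ : P →* ↥(Cfsg.Lie.Sz K e)) (ρ : P →* GL ι F) (ψ : K → F) (Y : K → P) (m : K → K) :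
    Prop where
  pm : ∀ a, ψ a = 1 ∨ ψ a = -1
  neg : ∃ a, ψ a = -1
  pair : Pair fun c a => ψ (c * a)
  lift : ∀ b, φ (Y b) = H.u 0 b
  add : ∀ a b, Y (a + b) = Y a * Y b
  act : ∀ a b b' g, φ g = H.u a b' → ((ρ g : GL ι F) : Matrix ι ι F) * ((ρ (Y b) : GL ι F) : Matrix ι ι F) =
    ψ (m a * b) • (((ρ (Y b) : GL ι F) : Matrix ι ι F) * ((ρ g : GL ι F) : Matrix ι ι F))
  one : m 1 ≠ 0
  onto : ∀ z, ∃ a, m a = z
  rank : ∀ c, (E (fun c a => ψ (c * a)) (fun b => ((ρ (Y b) : GL ι F) : Matrix ι ι F)) c).rank = 1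
  card : Fintype.card ι = 8

include H in
/-- lifts of the centre of the Sylow 2-subgroup commute -/
theorem lifts_comm (R : PRep φ ρ) (hK : Fintype.card K = 8) {p q : P} {s t : K} (hp : φ p = H.u 0 s) (hq : φ q = H.u 0 t) :
    p * q = q * p := by
  have hch := charP_of_eight hK
  have two : ∀ a : K, a + a = 0 := fun a => CharTwo.add_self_eq_zero a
  choose l hl using R.surj
  have hcU : ∀ x y : K, H.u 0 x * H.u 0 y = H.u 0 y * H.u 0 x := by
    intro x y
    rw [H.u_mul, H.u_mul, zero_mul, add_comm x y]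
  have hX : ∀ x y : K, H.u 0 (x + y) = H.u 0 x * H.u 0 y := by
    intro x y
    rw [H.u_mul, zero_mul, add_zero, add_zero]
  have hcc : ∀ x y : K, ∀ g, g * ⁅l (H.u 0 x), l (H.u 0 y)⁆ = ⁅l (H.u 0 x), l (H.u 0 y)⁆ * g := fun x y g =>
    R.comm_central (by rw [hl, hl, hcU]) g
  -- the torus acts
  have htor : ∀ x y : K, ∀ k : K, k ≠ 0 → ⁅l (H.u 0 x), l (H.u 0 y)⁆ = ⁅l (H.u 0 (x * k)), l (H.u 0 (y * k))⁆ := by
    intro x y k hk
    obtain ⟨k', hk'⟩ := (Finite.injective_iff_surjective.1 (θ.injective : Function.Injective θ)) k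
    have hk0 : k' ≠ 0 := by
      rintro rfl
      rw [map_zero] at hk'
      exact hk hk'.symm
    set g := l (H.d (Units.mk0 k' hk0)) with hg
    have h1 : g * ⁅l (H.u 0 x), l (H.u 0 y)⁆ * g⁻¹ = ⁅l (H.u 0 x), l (H.u 0 y)⁆ := by
      rw [hcc, mul_inv_cancel_right]
    rw [← h1]
    have h2 : g * ⁅l (H.u 0 x), l (H.u 0 y)⁆ * g⁻¹ = ⁅g * l (H.u 0 x) * g⁻¹, g * l (H.u 0 y) * g⁻¹⁆ := by
      simp only [commutatorElement_def]; group
    rw [h2]
    have h3 : ∀ z, φ (g * l (H.u 0 z) * g⁻¹) = φ (l (H.u 0 (z * k))) := by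
      intro z
      rw [map_mul, map_mul, map_inv, hl, hl, hl, H147.Sz.d_conj_u, zero_mul, zero_mul, Units.val_mk0, hk']
    exact Lift.comm_congr R.ker_le (h3 x) (h3 y)
  have hf : ∀ x : K, ⁅l (H.u 0 1), l (H.u 0 x)⁆ = 1 := by
    refine eight_trivial hK (f := fun x => ⁅l (H.u 0 1), l (H.u 0 x)⁆) ?_ ?_ ?_
    · intro x y
      rw [← Lift.comm_mul_right (hcc 1 y)]
      exact Lift.comm_congr R.ker_le rfl (by rw [map_mul, hl, hl, hl, hX])
    · intro x hx
      rw [htor 1 x⁻¹ x hx, one_mul, inv_mul_cancel₀ hx, ← commutatorElement_inv]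
      have h1 : ⁅l (H.u 0 1), l (H.u 0 x)⁆ * ⁅l (H.u 0 1), l (H.u 0 x)⁆ = 1 := by
        rw [← Lift.comm_mul_right (hcc 1 x), ← commutatorElement_one_right (l (H.u 0 1))]
        exact Lift.comm_congr R.ker_le rfl (by rw [map_mul, hl, ← hX, two, H.u_zero, map_one])
      exact inv_eq_of_mul_eq_one_right h1
    · rw [commutatorElement_self]
  rw [← commutatorElement_eq_one_iff_mul_comm]
  have h1 : ⁅p, q⁆ = ⁅l (H.u 0 s), l (H.u 0 t)⁆ := Lift.comm_congr R.ker_le (by rw [hp, hl]) (by rw [hq, hl])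
  rw [h1]
  by_cases hs : s = 0
  · rw [hs, ← commutatorElement_one_left (l (H.u 0 t))]
    exact Lift.comm_congr R.ker_le (by rw [hl, H.u_zero, map_one]) rfl
  · rw [htor s t s⁻¹ (inv_ne_zero hs), mul_inv_cancel₀ hs]
    exact hf _

theorem exists_data (R : PRep φ ρ) (hK : Fintype.card K = 8) (h2 : (2 : F) ≠ 0) (hn : Fintype.card ι ≤ 12) :
    ∃ (ψ : K → F) (Y : K → P) (m : K → K), Data H φ ρ ψ Y m := by
  classical
  have hch := charP_of_eight hK
  have two : ∀ a : K, a + a = 0 := fun a => CharTwo.add_self_eq_zero a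
  obtain ⟨ψ, hψ, hpm, ⟨a0, ha0⟩, hpair⟩ := exists_psi hch (K := K) h2
  have hψ0 : ψ 0 = 1 := by
    have h1 := hψ 0 0
    rw [add_zero] at h1
    rcases hpm 0 with h | h
    · exact h
    · rw [h] at h1
      exfalso
      apply h2
      linear_combination -h1
  have hsurj : Function.Surjective θ := Finite.injective_iff_surjective.1 (θ.injective : Function.Injective θ)
  have hcU : ∀ x y : K, H.u 0 x * H.u 0 y = H.u 0 y * H.u 0 x := by
    intro x y
    rw [H.u_mul, H.u_mul, zero_mul, add_comm x y]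
  have hX : ∀ x y : K, H.u 0 (x + y) = H.u 0 x * H.u 0 y := by
    intro x y
    rw [H.u_mul, zero_mul, add_zero, add_zero]
  -- an element different from 0 and 1
  obtain ⟨w, hw0, hw1⟩ : ∃ w : K, w ≠ 0 ∧ w ≠ 1 := by
    by_contra hcon
    push Not at hcon
    have h1 : (Finset.univ : Finset K) ⊆ {0, 1} := by
      intro a _
      by_cases ha : a = 0
      · simp only [ha, _root_.Finset.mem_insert, _root_.Finset.mem_singleton, _root_.zero_ne_one, _root_.or_false]
      · simp only [hcon a ha, _root_.Finset.mem_insert, _root_.one_ne_zero, _root_.Finset.mem_singleton, _root_.or_true]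
    have h2 := Finset.card_le_card h1
    have h3 : ({0, 1} : Finset K).card ≤ 2 := Finset.card_le_two
    rw [Finset.card_univ] at h2
    omega
  obtain ⟨w', hw'⟩ := hsurj w
  have hw'0 : w' ≠ 0 := by
    rintro rfl
    rw [map_zero] at hw'
    exact hw0 hw'.symm
  choose l hl using R.surj
  set h := l (H.d (Units.mk0 w' hw'0)) with hh
  have hhX : ∀ t, φ h * H.u 0 t * (φ h)⁻¹ = H.u 0 (w * t) := by
    intro t
    rw [hh, hl, H147.Sz.d_conj_u, zero_mul, zero_mul, Units.val_mk0, hw', mul_comm]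
  obtain ⟨Y, hY1, hY2, hY3⟩ := Lift.exists_hom R.surj R.ker_le (X := fun b => H.u 0 b) hX
    (fun s t p q hp hq => lifts_comm H R hK hp hq) hw1 hhX
  -- every torus element
  have htor : ∀ (g : P) (k : Kˣ), φ g = H.d k → ∀ t, g * Y t * g⁻¹ = Y (θ k * t) := by
    intro g k hg
    refine Lift.conj_lift R.ker_le ?_ hY2 hY2 hw1 hY3 hY3 ?_
    · intro t
      rw [map_mul, map_mul, map_inv, hY1, hY1, hg, H147.Sz.d_conj_u, zero_mul, zero_mul, mul_comm t]
    · rw [hg, hh, hl, H.d_mul, H.d_inv, H.d_mul]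
      congr 1
      rw [mul_comm k, mul_inv_cancel_right]
  set χ : K → K → F := fun c a => ψ (c * a) with hχ
  set M : K → Matrix ι ι F := fun b => ((ρ (Y b) : GL ι F) : Matrix ι ι F) with hM
  have hM2 : ∀ a b, M (a + b) = M a * M b := by
    intro a b
    simp only [hM]
    rw [hY2, map_mul, Units.val_mul]
  have hY0 : Y 0 = 1 := by
    have := hY2 0 0
    rw [add_zero] at this
    exact left_eq_mul.1 this
  have hM0 : M 0 = 1 := by
    simp only [hM]
    rw [hY0, map_one, Units.val_one]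
  -- ranks
  have hsum : ∑ c, (E χ M c).rank = Fintype.card ι :=
    sum_rank (fun c => E_mul_E_self hpair hM2 c) (fun c c' hc => E_mul_E hpair hM2 hc) (sum_E hpair hM0)
  have hrk : ∀ c c' : K, c ≠ 0 → c' ≠ 0 → (E χ M c).rank = (E χ M c').rank := by
    intro c c' hc hc'
    obtain ⟨k, hk⟩ := hsurj (c / c')
    have hk0 : k ≠ 0 := by
      rintro rfl
      rw [map_zero] at hk
      exact div_ne_zero hc hc' hk.symm
    refine rank_conj (g := ρ (l (H.d (Units.mk0 k hk0)))) ?_
    refine conj_E (m := fun _ => 1) _ (L := fun a => θ k * a) ?_ ?_ ?_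
    · exact (mulLeft_bijective₀ _ (by rw [hk]; exact div_ne_zero hc hc'))
    · intro a
      have h1 := htor _ (Units.mk0 k hk0) (hl (H.d (Units.mk0 k hk0))) a
      rw [Units.val_mk0] at h1
      rw [one_smul]
      simp only [hM]
      rw [← Units.val_mul, ← Units.val_mul, ← map_mul, ← map_mul, ← h1, inv_mul_cancel_right]
    · intro a
      simp only [hχ]
      rw [mul_one]
      congr 1
      rw [hk]
      field_simp
  have hr1 : ∀ c : K, c ≠ 0 → (E χ M c).rank = 1 := by
    intro c hc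
    have h7 : ∑ c ∈ Finset.univ.erase (0 : K), (E χ M c).rank = 7 * (E χ M 1).rank := by
      rw [Finset.sum_congr rfl fun c' hc' => hrk c' 1 (Finset.ne_of_mem_erase hc') one_ne_zero]
      rw [Finset.sum_const, Finset.card_erase_of_mem (Finset.mem_univ _), Finset.card_univ, hK]
      rfl
    have h8 := Finset.add_sum_erase Finset.univ (fun c => (E χ M c).rank) (Finset.mem_univ (0 : K))
    rw [h7, hsum] at h8
    rw [hrk c 1 hc one_ne_zero]
    have h9 : (E χ M 1).rank ≠ 0 := by
      intro h0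
      have hz : ∀ c : K, c ≠ 0 → E χ M c = 0 := fun c hc => eq_zero_of_rank (by rw [hrk c 1 hc one_ne_zero, h0])
      have h10 : E χ M 0 = 1 := by
        have := sum_E (χ := χ) hpair hM0
        rwa [Finset.sum_eq_single (0 : K) (fun c _ hc => hz c hc) (fun hn => absurd (Finset.mem_univ _) hn)] at this
      have h11 := Y_mul_E hpair hM2 1 (0 : K)
      rw [hpair.zero_left, one_smul] at h11
      have h11' : M 1 * E χ M 0 = E χ M 0 := h11
      rw [h10, mul_one] at h11'
      have h12 : Y 1 = 1 := by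
        apply R.inj
        apply Units.ext
        rw [map_one, Units.val_one]
        exact h11'
      have h13 := hY1 1
      rw [h12, map_one] at h13
      have h14 : H.u 0 0 = H.u 0 1 := by rw [H.u_zero, h13]
      exact zero_ne_one (H.u_inj h14).2
    omega
  -- the characters of the elements outside the centre
  have hcomm : ∀ a b, φ (l (H.u a 0)) * φ (Y b) = φ (Y b) * φ (l (H.u a 0)) := by
    intro a b
    rw [hl, hY1, H.u_mul, H.u_mul, map_zero, zero_mul, mul_zero, add_comm a 0, add_comm 0 b]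
  have hcc : ∀ a b, ∀ g, g * ⁅l (H.u a 0), Y b⁆ = ⁅l (H.u a 0), Y b⁆ * g := fun a b g => R.comm_central (hcomm a b) g
  have hm : ∀ a, ∃ c, ∀ b, ((ρ ⁅l (H.u a 0), Y b⁆ : GL ι F) : Matrix ι ι F) = ψ (c * b) • (1 : Matrix ι ι F) := by
    intro a
    obtain ⟨s, hs0, hs1, hs2⟩ := R.exists_sign (f := fun b => ⁅l (H.u a 0), Y b⁆) (fun b => R.comm_of (hcomm a b))
      (fun b c => by rw [hY2, Lift.comm_mul_right (hcc a c)])
    obtain ⟨c, hc⟩ := hpair.exists_of_char hs1 hs0
    exact ⟨c, fun b => by rw [hs2, hc]⟩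
  choose m hm using hm
  have hinj : ∀ x y : K, (∀ b, ψ (x * b) = ψ (y * b)) → x = y := by
    intro x y hxy
    by_contra hne
    have h3 : x + y ≠ 0 := by
      intro h0
      apply hne
      have : x + y = y + y := by rw [h0, two]
      exact add_right_cancel this
    have h4 : ∑ b, ψ ((x + y) * b) = 0 := hpair.sum_right (x + y) h3
    simp only [add_mul, hψ, hxy] at h4
    have h5 : ∀ b, ψ (y * b) * ψ (y * b) = 1 := fun b => hpair.sq y b
    simp only [h5, Finset.sum_const, Finset.card_univ, nsmul_eq_mul, mul_one] at h4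
    exact hpair.card h4
  -- equivariance
  have heq : ∀ (a : K) (k : Kˣ), m a = m (a * k ^ 2 * (θ k)⁻¹) * θ k := by
    intro a k
    apply hinj
    intro b
    set g := l (H.d k) with hg
    have h3 : ⁅l (H.u a 0), Y b⁆ = ⁅l (H.u (a * k ^ 2 * (θ k)⁻¹) 0), Y (θ k * b)⁆ := by
      have h4 : g * ⁅l (H.u a 0), Y b⁆ * g⁻¹ = ⁅l (H.u a 0), Y b⁆ := by rw [hcc, mul_inv_cancel_right]
      rw [← h4]
      have h5 : g * ⁅l (H.u a 0), Y b⁆ * g⁻¹ = ⁅g * l (H.u a 0) * g⁻¹, g * Y b * g⁻¹⁆ := by
        simp only [commutatorElement_def]; group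
      rw [h5, htor g k (hl _)]
      apply Lift.comm_congr R.ker_le _ rfl
      rw [map_mul, map_mul, map_inv, hl, hl, hl, H147.Sz.d_conj_u, zero_mul]
    have h6 := hm a b
    rw [h3, hm] at h6
    have h7 := R.smul_inj h6
    rw [← h7]
    congr 1
    ring
  -- the action
  have hact : ∀ a b b' g, φ g = H.u a b' → ((ρ g : GL ι F) : Matrix ι ι F) * M b = ψ (m a * b) • (M b * ((ρ g : GL ι F) : Matrix ι ι F)) := by
    intro a b b' g hg
    have h3 : ⁅g, Y b⁆ = ⁅l (H.u a 0), Y b⁆ := by
      have h4 : ⁅g, Y b⁆ = ⁅l (H.u a 0) * Y b', Y b⁆ := by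
        apply Lift.comm_congr R.ker_le _ rfl
        rw [hg, map_mul, hl, hY1, H.u_mul, map_zero, mul_zero, add_zero, add_zero, zero_add]
      have h5 : ⁅Y b', Y b⁆ = 1 := commutatorElement_eq_one_iff_mul_comm.2 (by rw [← hY2, ← hY2, add_comm])
      rw [h4, Lift.comm_mul_left (by rw [h5]; intro g; rw [mul_one, one_mul]), h5, one_mul]
    have h6 : g * Y b = ⁅g, Y b⁆ * (Y b * g) := by simp only [commutatorElement_def]; group
    simp only [hM]
    rw [← Units.val_mul, ← map_mul, h6, map_mul, Units.val_mul, h3, hm, Matrix.smul_mul, Matrix.one_mul, map_mul,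
      Units.val_mul]
  have hone : m 1 ≠ 0 := by
    intro h0
    -- a second element
    obtain ⟨k, hk, hka⟩ : ∃ k : Kˣ, m ((k : K) ^ 2 * (θ k)⁻¹) = 0 ∧ θ ((k : K) ^ 2 * (θ k)⁻¹) ≠ (k : K) ^ 2 * (θ k)⁻¹ := by
      refine ⟨Units.mk0 w' hw'0, ?_, ?_⟩
      · have := heq 1 (Units.mk0 w' hw'0)
        rw [h0, one_mul] at this
        rcases mul_eq_zero.1 this.symm with h3 | h3
        · exact h3
        · rw [Units.val_mk0, hw'] at h3
          exact absurd h3 hw0
      · rw [Units.val_mk0, hw', map_mul, map_pow, map_inv₀, hw', ← hw', H.sq, hw']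
        intro h3
        -- w ^ 2 / w' ^ 2 = w' ^ 2 / w
        have h4 : w ^ 3 = w' ^ 4 := by
          field_simp at h3
          linear_combination h3
        have h5 : w' ^ 2 = θ w := by rw [← hw', H.sq]
        have h6 : w ^ 3 = (θ w) ^ 2 := by rw [← h5, h4]; ring
        have h7 : (θ w) ^ 3 = w ^ 4 := by
          have := congrArg θ h6
          rw [map_pow, map_pow, H.sq] at this
          rw [this]
          ring
        have h8 : w ^ 7 = 1 := by
          have := FiniteField.pow_card_sub_one_eq_one w hw0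
          rwa [hK] at this
        -- w ^ 9 = (θ w) ^ 6 = w ^ 8
        have h9 : w ^ 9 = w ^ 8 := by
          have e1 : w ^ 9 = (θ w) ^ 6 := by
            calc w ^ 9 = (w ^ 3) ^ 3 := by ring
              _ = _ := by rw [h6]; ring
          have e2 : w ^ 8 = (θ w) ^ 6 := by
            calc w ^ 8 = (w ^ 4) ^ 2 := by ring
              _ = _ := by rw [← h7]; ring
          rw [e1, e2]
        apply hw1
        have e3 : w ^ 9 = w ^ 2 := by
          calc w ^ 9 = w ^ 7 * w ^ 2 := by ring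
            _ = _ := by rw [h8, one_mul]
        have e4 : w ^ 8 = w := by
          calc w ^ 8 = w ^ 7 * w := by ring
            _ = _ := by rw [h8, one_mul]
        rw [e3, e4] at h9
        have : w * (w - 1) = 0 := by linear_combination h9
        exact sub_eq_zero.1 ((mul_eq_zero.1 this).resolve_left hw0)
    set a := (k : K) ^ 2 * (θ k)⁻¹ with ha
    set x0 := a + θ a with hx0
    have hx00 : x0 ≠ 0 := by
      intro h3
      apply hka
      have : θ a = a := by
        have : a + θ a = a + a := by rw [two, ← hx0, h3]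
        exact add_left_cancel this
      exact this
    -- the commutator
    have hcm : φ ⁅l (H.u 1 0), l (H.u a 0)⁆ = H.u 0 x0 := by
      rw [map_commutatorElement, hl, hl, commutatorElement_def, mul_inv_eq_iff_eq_mul, mul_inv_eq_iff_eq_mul,
        H.u_mul, H.u_mul, H.u_mul]
      congr 1
      · ring
      · rw [map_one]
        have := two a
        rw [hx0]
        linear_combination -this
    obtain ⟨s, hs, hs'⟩ := R.ker (⁅l (H.u 1 0), l (H.u a 0)⁆ * (Y x0)⁻¹) (by rw [map_mul, map_inv, hcm, hY1, mul_inv_cancel])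
    have hval : ∀ c : K, c ≠ 0 → s * ψ (c * x0) = 1 := by
      intro c hc
      have hE := E_mul_E_self hpair hM2 c
      have c1 : ∀ b, ((ρ (l (H.u 1 0)) : GL ι F) : Matrix ι ι F) * M b = M b * ((ρ (l (H.u 1 0)) : GL ι F) : Matrix ι ι F) := by
        intro b
        rw [hact 1 b 0 _ (hl _), h0, zero_mul]
        rw [hψ0, one_smul]
      have c2 : ∀ b, ((ρ (l (H.u a 0)) : GL ι F) : Matrix ι ι F) * M b = M b * ((ρ (l (H.u a 0)) : GL ι F) : Matrix ι ι F) := by
        intro b
        rw [hact a b 0 _ (hl _), hk, zero_mul]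
        rw [hψ0, one_smul]
      obtain ⟨d1, hd1⟩ := scalar_of_rank_one hE (hr1 c hc) (comm_E (χ := χ) c1 c)
      obtain ⟨d2, hd2⟩ := scalar_of_rank_one hE (hr1 c hc) (comm_E (χ := χ) c2 c)
      set A := l (H.u 1 0) with hA
      set B := l (H.u a 0) with hB
      have e1 : A * B = (⁅A, B⁆ * (Y x0)⁻¹) * Y x0 * (B * A) := by simp only [commutatorElement_def]; group
      have e2 := congrArg (fun g => ((ρ g : GL ι F) : Matrix ι ι F) * E χ M c) e1
      simp only [map_mul ρ (A) B, map_mul ρ _ (B * A), map_mul ρ _ (Y x0), map_mul ρ B A, Units.val_mul] at e2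
      rw [hs'] at e2
      have e3 : ((ρ A : GL ι F) : Matrix ι ι F) * ((ρ B : GL ι F) : Matrix ι ι F) * E χ M c = (d1 * d2) • E χ M c := by
        rw [Matrix.mul_assoc, hd2, Matrix.mul_smul, hd1, smul_smul, mul_comm]
      have e4 : s • (1 : Matrix ι ι F) * ((ρ (Y x0) : GL ι F) : Matrix ι ι F) *
          (((ρ B : GL ι F) : Matrix ι ι F) * ((ρ A : GL ι F) : Matrix ι ι F)) * E χ M c =
          (s * ψ (c * x0) * (d1 * d2)) • E χ M c := by
        have e5 : M x0 * E χ M c = ψ (c * x0) • E χ M c := Y_mul_E hpair hM2 x0 c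
        rw [Matrix.smul_mul, Matrix.one_mul, Matrix.mul_assoc, Matrix.mul_assoc, hd1, Matrix.mul_smul, hd2, smul_smul,
          Matrix.mul_smul, Matrix.smul_mul]
        rw [show ((ρ (Y x0) : GL ι F) : Matrix ι ι F) = M x0 from rfl, e5, smul_smul, smul_smul]
        congr 1
        ring
      rw [e3, e4] at e2
      have hE0 : E χ M c ≠ 0 := by
        intro h3
        have := hr1 c hc
        rw [h3, Matrix.rank_zero] at this
        exact zero_ne_one this
      have hd10 : d1 ≠ 0 := by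
        rintro rfl
        rw [zero_smul] at hd1
        have : ((ρ A⁻¹ : GL ι F) : Matrix ι ι F) * (((ρ A : GL ι F) : Matrix ι ι F) * E χ M c) = 0 := by rw [hd1, mul_zero]
        rw [← Matrix.mul_assoc, ← Units.val_mul, ← map_mul, inv_mul_cancel, map_one, Units.val_one, Matrix.one_mul] at this
        exact hE0 this
      have hd20 : d2 ≠ 0 := by
        rintro rfl
        rw [zero_smul] at hd2
        have : ((ρ B⁻¹ : GL ι F) : Matrix ι ι F) * (((ρ B : GL ι F) : Matrix ι ι F) * E χ M c) = 0 := by rw [hd2, mul_zero]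
        rw [← Matrix.mul_assoc, ← Units.val_mul, ← map_mul, inv_mul_cancel, map_one, Units.val_one, Matrix.one_mul] at this
        exact hE0 this
      have e6 : (d1 * d2) = s * ψ (c * x0) * (d1 * d2) := by
        have e7 : (d1 * d2 - s * ψ (c * x0) * (d1 * d2)) • E χ M c = 0 := by rw [sub_smul, e2, sub_self]
        exact sub_eq_zero.1 ((smul_eq_zero.1 e7).resolve_right hE0)
      have e8 : (s * ψ (c * x0) - 1) * (d1 * d2) = 0 := by linear_combination -e6
      exact sub_eq_zero.1 ((mul_eq_zero.1 e8).resolve_right (mul_ne_zero hd10 hd20))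
    have hv : ∀ z : K, z ≠ 0 → s * ψ z = 1 := by
      intro z hz
      have := hval (z / x0) (div_ne_zero hz hx00)
      rwa [div_mul_cancel₀ _ hx00] at this
    have v1 := hv 1 one_ne_zero
    have v2 := hv w hw0
    have hw2 : 1 + w ≠ 0 := by
      intro h3
      apply hw1
      have : 1 + w = 1 + 1 := by rw [h3, two]
      exact add_left_cancel this
    have v3 := hv (1 + w) hw2
    rw [hψ] at v3
    have v4 : s = 1 := by
      calc s = s * (s * ψ 1) * (s * ψ w) := by rw [v1, v2, mul_one, mul_one]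
        _ = (s * s) * (s * (ψ 1 * ψ w)) := by ring
        _ = 1 := by rw [hs, v3, one_mul]
    have ha00 : a0 ≠ 0 := by
      rintro rfl
      have h3 := hψ 0 0
      rw [add_zero, ha0] at h3
      apply h2
      linear_combination -h3
    have v5 := hv a0 ha00
    rw [v4, ha0] at v5
    apply h2
    linear_combination -v5
  have hm0 : m 0 = 0 := by
    have h3 := heq 0 (Units.mk0 w' hw'0)
    rw [zero_mul, zero_mul, Units.val_mk0, hw'] at h3
    have h4 : m 0 * (w - 1) = 0 := by linear_combination -h3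
    exact (mul_eq_zero.1 h4).resolve_right (sub_ne_zero.2 hw1)
  have honto : ∀ z, ∃ a, m a = z := by
    intro z
    by_cases hz : z = 0
    · exact ⟨0, by rw [hm0, hz]⟩
    · obtain ⟨k, hk⟩ := hsurj (m 1 / z)
      have hk0 : k ≠ 0 := by
        rintro rfl
        rw [map_zero] at hk
        exact div_ne_zero hone hz hk.symm
      refine ⟨1 * k ^ 2 * (θ k)⁻¹, ?_⟩
      have h3 := heq 1 (Units.mk0 k hk0)
      rw [Units.val_mk0] at h3
      rw [hk] at h3 ⊢
      field_simp at h3 ⊢
      rw [← mul_right_inj' hone, ← h3]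
  have hr0 : (E χ M 0).rank = 1 := by
    rw [← hr1 (m 1) hone]
    refine rank_conj (g := ρ (l (H.u 1 0))) ?_
    refine conj_E (m := fun b => ψ (m 1 * b)) _ (L := id) Function.bijective_id ?_ ?_
    · intro b
      exact hact 1 b 0 _ (hl _)
    · intro b
      simp only [hχ, id]
      rw [zero_mul]
      rw [hψ0, one_mul]
  have hrall : ∀ c, (E χ M c).rank = 1 := fun c => by
    by_cases hc : c = 0
    · rw [hc]; exact hr0
    · exact hr1 c hc
  refine ⟨ψ, Y, m, hpm, ⟨a0, ha0⟩, hpair, hY1, hY2, hact, hone, honto, hrall, ?_⟩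
  rw [← hsum, Finset.sum_congr rfl fun c _ => hrall c, Finset.sum_const, Finset.card_univ, hK]
  rfl

end Cfsg.Agent.H814.Sz8
end

-- part: H814/SzEightMain
section
/-!
# `Sz(8)` in degree 8: self-dual, no alternating form, the quadratic form has plus type (helper814)
-/

set_option autoImplicit false
set_option linter.unusedSectionVars false

namespace Cfsg.Agent.H814.Sz8

open Subgroup Matrix Cfsg.Agent.H814.Wt Cfsg.Agent.LieRecognition.SzMatrix
open scoped commutatorElement

section data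

variable {K : Type*} [Field K] [Fintype K] {θ : K →+* K} {e : ℕ} {H : Good K θ e}
variable {P : Type*} [Group P] {ι : Type*} [Fintype ι] [DecidableEq ι] {F : Type*} [Field F]
variable {φ : P →* ↥(Cfsg.Lie.Sz K e)} {ρ : P →* GL ι F} {ψ : K → F} {Y : K → P} {m : K → K}

theorem Data.Y0 (D : Data H φ ρ ψ Y m) : Y 0 = 1 := by
  have := D.add 0 0
  rw [add_zero] at this
  exact left_eq_mul.1 this

theorem Data.m0 (D : Data H φ ρ ψ Y m) : m 0 = 0 := by
  by_contra h0
  obtain ⟨a0, ha0⟩ := D.neg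
  have h1 := D.act 0 (a0 / m 0) 0 1 (by rw [map_one, H.u_zero])
  rw [map_one, Units.val_one, Matrix.one_mul, Matrix.mul_one, mul_div_cancel₀ _ h0, ha0] at h1
  have h2 : (ρ (Y (a0 / m 0)) : Matrix ι ι F) * ((ρ (Y (a0 / m 0))⁻¹ : GL ι F) : Matrix ι ι F) =
      ((-1 : F) • (ρ (Y (a0 / m 0)) : Matrix ι ι F)) * ((ρ (Y (a0 / m 0))⁻¹ : GL ι F) : Matrix ι ι F) := by rw [← h1]
  rw [Matrix.smul_mul, ← Units.val_mul, ← map_mul, mul_inv_cancel, map_one, Units.val_one] at h2
  have h3 := D.card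
  have h4 : Nonempty ι := Fintype.card_pos_iff.1 (by omega)
  obtain ⟨i⟩ := h4
  have h5 := congrFun (congrFun h2 i) i
  rw [Matrix.one_apply_eq, Matrix.smul_apply, Matrix.one_apply_eq, smul_eq_mul, mul_one] at h5
  have h6 := D.pair.card
  obtain ⟨a1, ha1⟩ := D.neg
  have h7 := D.pair.sum_right 1 one_ne_zero
  -- all values are one
  have h8 : ∀ a, ψ a = 1 := fun a => by rcases D.pm a with h | h <;> [exact h; rw [h, ← h5]]
  simp only [h8, Finset.sum_const, Finset.card_univ, nsmul_eq_mul, mul_one] at h7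
  exact h6 h7

theorem Data.m_ne (D : Data H φ ρ ψ Y m) {a : K} (ha : a ≠ 0) : m a ≠ 0 := by
  intro h0
  have h1 : Function.Injective m := Finite.injective_iff_surjective.2 D.onto
  exact ha (h1 (by rw [h0, D.m0]))

theorem Data.two (D : Data H φ ρ ψ Y m) : (2 : F) ≠ 0 := by
  intro h2
  have h1 : ∀ a, ψ a = 1 := fun a => by
    rcases D.pm a with h | h
    · exact h
    · rw [h]; linear_combination -h2
  have h7 := D.pair.sum_right 1 one_ne_zero
  simp only [h1, Finset.sum_const, Finset.card_univ, nsmul_eq_mul, mul_one] at h7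
  exact D.pair.card h7

/-- unipotent elements have trace zero -/
theorem Data.trace_unip (R : PRep φ ρ) (D : Data H φ ρ ψ Y m) {g : P} {a b : K} (hg : φ g = H.u a b) (hab : a ≠ 0 ∨ b ≠ 0) :
    ((ρ g : GL ι F) : Matrix ι ι F).trace = 0 := by
  have h2 := D.two
  obtain ⟨a0, ha0⟩ := D.neg
  by_cases ha : a = 0
  · subst ha
    have hb : b ≠ 0 := hab.resolve_left fun h => h rfl
    -- g = k * Y b
    have h3 : φ (g * (Y b)⁻¹) = 1 := by rw [map_mul, map_inv, hg, D.lift, mul_inv_cancel]
    obtain ⟨s, -, hs⟩ := R.ker _ h3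
    have h4 : ((ρ g : GL ι F) : Matrix ι ι F) = s • ((ρ (Y b) : GL ι F) : Matrix ι ι F) := by
      have h5 : g = g * (Y b)⁻¹ * Y b := by group
      rw [h5, map_mul, Units.val_mul, hs, Matrix.smul_mul, Matrix.one_mul]
    rw [h4, Matrix.trace_smul]
    obtain ⟨a, ha⟩ := D.onto (a0 / b)
    obtain ⟨u, hu⟩ := R.surj (H.u a 0)
    have h5 := D.act a b 0 u hu
    rw [ha, div_mul_cancel₀ _ hb, ha0] at h5
    rw [trace_zero_of_anti h2 (y := ((ρ u : GL ι F) : Matrix ι ι F)) (ρ u).isUnit, smul_zero]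
    rw [h5, neg_smul, one_smul, neg_neg]
  · have h3 := D.m_ne ha
    have h4 := D.act a (a0 / m a) b g hg
    rw [mul_div_cancel₀ _ h3, ha0, neg_smul, one_smul] at h4
    exact trace_zero_of_anti h2 (ρ (Y (a0 / m a))).isUnit h4

theorem sq_lift (R : PRep φ ρ) (D : Data H φ ρ ψ Y m) {p : P} (h1 : φ p ≠ 1) (h2 : φ p * φ p = 1) : p * p = 1 := by
  have h3 := H147.Sz.isConj_invol H h1 h2
  obtain ⟨x, hx⟩ := isConj_iff.1 h3
  obtain ⟨y, rfl⟩ := R.surj x
  have h4 : φ (y * p * y⁻¹ * (Y 1)⁻¹) = 1 := by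
    rw [map_mul, map_mul, map_mul, map_inv, map_inv, hx, D.lift, mul_inv_cancel]
  set k := y * p * y⁻¹ * (Y 1)⁻¹ with hk
  obtain ⟨s, hs, hs'⟩ := R.ker _ h4
  have hk2 : k * k = 1 := by
    apply R.inj
    apply Units.ext
    rw [map_mul, Units.val_mul, hs', map_one, Units.val_one, Matrix.smul_mul, Matrix.one_mul, smul_smul, hs, one_smul]
  have hY : Y 1 * Y 1 = 1 := by rw [← D.add, D.pair.two, D.Y0]
  have hc := Lift.central R.ker_le h4
  have h5 : p = y⁻¹ * (k * Y 1) * y := by rw [hk]; group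
  have h6 : k * Y 1 * (k * Y 1) = 1 := by
    calc k * Y 1 * (k * Y 1) = k * (Y 1 * k) * Y 1 := by group
      _ = k * (k * Y 1) * Y 1 := by rw [hc]
      _ = (k * k) * (Y 1 * Y 1) := by group
      _ = 1 := by rw [hk2, hY, one_mul]
  calc p * p = y⁻¹ * (k * Y 1 * (k * Y 1)) * y := by rw [h5]; group
    _ = 1 := by rw [h6]; group

/-- **self-dual** -/
theorem Data.trace_inv (R : PRep φ ρ) (D : Data H φ ρ ψ Y m) (hR : H147.Sz.Real H) (g : P) :
    ((ρ g⁻¹ : GL ι F) : Matrix ι ι F).trace = ((ρ g : GL ι F) : Matrix ι ι F).trace := by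
  by_cases h1 : φ g = 1
  · obtain ⟨s, hs, hs'⟩ := R.ker _ h1
    have h3 : g * g = 1 := by
      apply R.inj
      apply Units.ext
      rw [map_mul, Units.val_mul, hs', map_one, Units.val_one, Matrix.smul_mul, Matrix.one_mul, smul_smul, hs, one_smul]
    rw [inv_eq_of_mul_eq_one_right h3]
  rcases hR _ h1 with ⟨h2, i, hi1, hi2, hi3⟩ | ⟨a, b, hab⟩
  · obtain ⟨j, rfl⟩ := R.surj i
    have hj := sq_lift R D hi1 hi2
    have hji : j⁻¹ = j := inv_eq_of_mul_eq_one_right hj
    have hk1 : φ (j * g) ≠ 1 := by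
      intro h3
      apply h2
      rw [map_mul] at h3
      have h4 : φ g = φ j := by
        calc φ g = (φ j * φ j) * φ g := by rw [hi2, one_mul]
          _ = φ j * (φ j * φ g) := by group
          _ = φ j := by rw [h3, mul_one]
      rw [h4, hi2]
    have hk2 : φ (j * g) * φ (j * g) = 1 := by
      rw [map_mul]
      calc φ j * φ g * (φ j * φ g) = (φ j * φ g * φ j) * φ g := by group
        _ = 1 := by rw [hi3, inv_mul_cancel]
    have hk := sq_lift R D hk1 hk2
    have h3 : g⁻¹ = j * g * j⁻¹ := by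
      rw [hji]
      have h4 : j * g * (j * g) = 1 := hk
      apply inv_eq_of_mul_eq_one_left
      rw [← h4]
      group
    rw [h3, map_mul, map_mul, Units.val_mul, Units.val_mul, Matrix.trace_mul_comm, ← Matrix.mul_assoc, ← Units.val_mul,
      ← map_mul, inv_mul_cancel, map_one, Units.val_one, Matrix.one_mul]
  · obtain ⟨x, hx⟩ := isConj_iff.1 hab
    obtain ⟨y, rfl⟩ := R.surj x
    have hne : a ≠ 0 ∨ b ≠ 0 := by
      by_contra hcon
      push Not at hcon
      rw [hcon.1, hcon.2, H.u_zero] at hx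
      apply h1
      have h3 : φ g = (φ y)⁻¹ * (φ y * φ g * (φ y)⁻¹) * φ y := by group
      rw [h3, hx]
      group
    have hne' : a ≠ 0 ∨ b + a * θ a ≠ 0 := by
      by_cases ha : a = 0
      · right
        rw [ha, zero_mul, add_zero]
        exact hne.resolve_left fun h => h ha
      · exact Or.inl ha
    have t1 := D.trace_unip R (g := y * g * y⁻¹) (by rw [map_mul, map_mul, map_inv]; exact hx) hne
    have t2 := D.trace_unip R (g := y * g⁻¹ * y⁻¹) (a := a) (b := b + a * θ a) (by
      have : y * g⁻¹ * y⁻¹ = (y * g * y⁻¹)⁻¹ := by group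
      rw [this, map_inv, map_mul, map_mul, map_inv, hx, H.u_inv]) hne'
    have key : ∀ z : P, ((ρ (y * z * y⁻¹) : GL ι F) : Matrix ι ι F).trace = ((ρ z : GL ι F) : Matrix ι ι F).trace := by
      intro z
      rw [map_mul, map_mul, Units.val_mul, Units.val_mul, Matrix.trace_mul_comm, ← Matrix.mul_assoc, ← Units.val_mul,
        ← map_mul, inv_mul_cancel, map_one, Units.val_one, Matrix.one_mul]
    rw [← key g⁻¹, ← key g, t1, t2]

end data

section forms

variable {K : Type*} [Field K] [Fintype K] {θ : K →+* K} {e : ℕ} {H : Good K θ e}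
variable {P : Type*} [Group P] {ι : Type} [Fintype ι] [DecidableEq ι] {F : Type*} [Field F]
variable {φ : P →* ↥(Cfsg.Lie.Sz K e)} {ρ : P →* GL ι F} {ψ : K → F} {Y : K → P} {m : K → K}

/-- the weight spaces are orthogonal for an invariant form -/
theorem Data.orth (D : Data H φ ρ ψ Y m) {f : (ι → F) → (ι → F) → F} (hf : Cfsg.Geo.IsBilinearForm f)
    (hinv : ∀ g u v, f (((ρ g : GL ι F) : Matrix ι ι F) *ᵥ u) (((ρ g : GL ι F) : Matrix ι ι F) *ᵥ v) = f u v) {c c' : K}
    (hc : c ≠ c') (u v : ι → F) :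
    f (E (fun c a => ψ (c * a)) (fun b => ((ρ (Y b) : GL ι F) : Matrix ι ι F)) c *ᵥ u)
      (E (fun c a => ψ (c * a)) (fun b => ((ρ (Y b) : GL ι F) : Matrix ι ι F)) c' *ᵥ v) = 0 := by
  obtain ⟨a0, ha0⟩ := D.neg
  have two : ∀ a : K, a + a = 0 := D.pair.two
  have hcc : c + c' ≠ 0 := by
    intro h0
    apply hc
    have : c + c' = c' + c' := by rw [h0, two]
    exact add_right_cancel this
  have hM : ∀ a b, (fun b => ((ρ (Y b) : GL ι F) : Matrix ι ι F)) (a + b) =
      (fun b => ((ρ (Y b) : GL ι F) : Matrix ι ι F)) a * (fun b => ((ρ (Y b) : GL ι F) : Matrix ι ι F)) b := by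
    intro a b
    simp only
    rw [D.add, map_mul, Units.val_mul]
  have h1 := hinv (Y (a0 / (c + c'))) (E (fun c a => ψ (c * a)) (fun b => ((ρ (Y b) : GL ι F) : Matrix ι ι F)) c *ᵥ u)
    (E (fun c a => ψ (c * a)) (fun b => ((ρ (Y b) : GL ι F) : Matrix ι ι F)) c' *ᵥ v)
  rw [Matrix.mulVec_mulVec, Matrix.mulVec_mulVec] at h1
  have e1 := Y_mul_E (ι := ι) (Y := fun b => ((ρ (Y b) : GL ι F) : Matrix ι ι F)) D.pair hM (a0 / (c + c')) c
  have e2 := Y_mul_E (ι := ι) (Y := fun b => ((ρ (Y b) : GL ι F) : Matrix ι ι F)) D.pair hM (a0 / (c + c')) c'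
  rw [e1, e2, Matrix.smul_mulVec, Matrix.smul_mulVec, hf.smul_left, hf.smul_right, ← mul_assoc] at h1
  have h3 : ψ (c * (a0 / (c + c'))) * ψ (c' * (a0 / (c + c'))) = -1 := by
    have h4 := D.pair.add_left c c' (a0 / (c + c'))
    rw [← h4, mul_div_cancel₀ _ hcc, ha0]
  rw [h3] at h1
  have h5 : (2 : F) * f (E (fun c a => ψ (c * a)) (fun b => ((ρ (Y b) : GL ι F) : Matrix ι ι F)) c *ᵥ u)
    (E (fun c a => ψ (c * a)) (fun b => ((ρ (Y b) : GL ι F) : Matrix ι ι F)) c' *ᵥ v) = 0 := by linear_combination -h1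
  exact (mul_eq_zero.1 h5).resolve_left D.two

theorem Data.hM (D : Data H φ ρ ψ Y m) (a b : K) : ((ρ (Y (a + b)) : GL ι F) : Matrix ι ι F) =
    ((ρ (Y a) : GL ι F) : Matrix ι ι F) * ((ρ (Y b) : GL ι F) : Matrix ι ι F) := by
  rw [D.add, map_mul, Units.val_mul]

theorem Data.hM0 (D : Data H φ ρ ψ Y m) : ((ρ (Y 0) : GL ι F) : Matrix ι ι F) = 1 := by
  rw [D.Y0, map_one, Units.val_one]

theorem Data.sum_vec (D : Data H φ ρ ψ Y m) (v : ι → F) :
    ∑ c, E (fun c a => ψ (c * a)) (fun b => ((ρ (Y b) : GL ι F) : Matrix ι ι F)) c *ᵥ v = v := by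
  rw [← Matrix.sum_mulVec, sum_E (ι := ι) D.pair D.hM0, Matrix.one_mulVec]

/-- the weight spaces are lines -/
theorem Data.line (D : Data H φ ρ ψ Y m) (c : K) : ∃ z : ι → F, z ≠ 0 ∧
    E (fun c a => ψ (c * a)) (fun b => ((ρ (Y b) : GL ι F) : Matrix ι ι F)) c *ᵥ z = z ∧
    ∀ v, ∃ t : F, E (fun c a => ψ (c * a)) (fun b => ((ρ (Y b) : GL ι F) : Matrix ι ι F)) c *ᵥ v = t • z := by
  set e := E (fun c a => ψ (c * a)) (fun b => ((ρ (Y b) : GL ι F) : Matrix ι ι F)) c with he
  have hee : e * e = e := E_mul_E_self (ι := ι) D.pair D.hM c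
  have h1 : Module.finrank F (W e) = 1 := D.rank c
  obtain ⟨z, hz, hspan⟩ := finrank_eq_one_iff'.1 h1
  refine ⟨z, fun h => hz (Subtype.ext h), (mem_W hee).1 z.2, fun v => ?_⟩
  obtain ⟨t, ht⟩ := hspan ⟨e *ᵥ v, LinearMap.mem_range_self _ v⟩
  exact ⟨t, (congrArg Subtype.val ht).symm⟩

/-- **no alternating form** -/
theorem Data.not_symplectic (D : Data H φ ρ ψ Y m) {f : (ι → F) → (ι → F) → F} (hf : Cfsg.Geo.IsSymplecticForm f)
    (hinv : ∀ g u v, f (((ρ g : GL ι F) : Matrix ι ι F) *ᵥ u) (((ρ g : GL ι F) : Matrix ι ι F) *ᵥ v) = f u v) : False := by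
  classical
  have hb := hf.bilinear
  have hsl : ∀ (s : Finset K) (g : K → ι → F) (v : ι → F), f (∑ c ∈ s, g c) v = ∑ c ∈ s, f (g c) v := by
    intro s g v
    induction s using Finset.induction_on with
    | empty =>
      rw [Finset.sum_empty, Finset.sum_empty]
      have := hb.smul_left 0 0 v
      rw [zero_mul, zero_smul] at this
      exact this
    | insert a s ha ih => rw [Finset.sum_insert ha, Finset.sum_insert ha, hb.add_left, ih]
  have hsr : ∀ (s : Finset K) (g : K → ι → F) (v : ι → F), f v (∑ c ∈ s, g c) = ∑ c ∈ s, f v (g c) := by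
    intro s g v
    induction s using Finset.induction_on with
    | empty =>
      rw [Finset.sum_empty, Finset.sum_empty]
      have := hb.smul_right 0 v 0
      rw [zero_mul, zero_smul] at this
      exact this
    | insert a s ha ih => rw [Finset.sum_insert ha, Finset.sum_insert ha, hb.add_right, ih]
  have hall : ∀ u v, f u v = 0 := by
    intro u v
    rw [← D.sum_vec u, hsl]
    apply Finset.sum_eq_zero
    intro c _
    rw [← D.sum_vec v, hsr]
    apply Finset.sum_eq_zero
    intro c' _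
    by_cases hc : c = c'
    · subst hc
      obtain ⟨z, -, -, hz⟩ := D.line c
      obtain ⟨s, hs⟩ := hz u
      obtain ⟨t, ht⟩ := hz v
      rw [hs, ht, hb.smul_left, hb.smul_right, hf.alternating, mul_zero, mul_zero]
    · exact D.orth hb hinv hc u v
  obtain ⟨z, hz, -, -⟩ := D.line 0
  obtain ⟨⟨x, hx⟩, -⟩ := hf.nondegenerate z hz
  exact hx (hall x z)

/-- **the quadratic form has plus type** -/
theorem Data.plus [Finite F] (R : PRep φ ρ) (D : Data H φ ρ ψ Y m) (hK : Fintype.card K = 8) {Q : (ι → F) → F}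
    (hQ : Cfsg.Geo.IsNondegenerateQuadraticForm Q)
    (hinv : ∀ g v, Q (((ρ g : GL ι F) : Matrix ι ι F) *ᵥ v) = Q v) : Cfsg.Geo.IsPlusTypeOn Q ⊤ := by
  classical
  have hb := hQ.polar_bilinear
  set B := QuadraticMap.polar Q with hB
  have hBinv : ∀ g u v, B (((ρ g : GL ι F) : Matrix ι ι F) *ᵥ u) (((ρ g : GL ι F) : Matrix ι ι F) *ᵥ v) = B u v := by
    intro g u v
    rw [hB, QuadraticMap.polar, QuadraticMap.polar, ← Matrix.mulVec_add, hinv, hinv, hinv]
  have hQadd : ∀ u v, Q (u + v) = Q u + Q v + B u v := by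
    intro u v
    rw [hB, QuadraticMap.polar]
    ring
  set χ : K → K → F := fun c a => ψ (c * a) with hχ
  set M : K → Matrix ι ι F := fun b => ((ρ (Y b) : GL ι F) : Matrix ι ι F) with hM
  obtain ⟨z, hz0, hz1, hz2⟩ := D.line 0
  -- transported vectors
  choose a ha using D.onto
  choose g hg using fun c => R.surj (H.u (a c) 0)
  set v : K → ι → F := fun c => ((ρ (g c) : GL ι F) : Matrix ι ι F) *ᵥ z with hv
  have hEv : ∀ c, E χ M c *ᵥ v c = v c := by
    intro c
    have h1 : ((ρ (g c) : GL ι F) : Matrix ι ι F) * E χ M 0 = E χ M c * ((ρ (g c) : GL ι F) : Matrix ι ι F) := by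
      refine conj_E (m := fun b => ψ (m (a c) * b)) _ (L := id) Function.bijective_id ?_ ?_
      · intro b
        exact D.act (a c) b 0 _ (hg c)
      · intro b
        simp only [hχ, id]
        rw [zero_mul, ha]
        have := D.pair.zero_left (0 : K)
        simp only [zero_mul] at this
        rw [this, one_mul]
    simp only [hv]
    rw [Matrix.mulVec_mulVec, ← h1, ← Matrix.mulVec_mulVec]
    congr 1
  have hQv : ∀ c, Q (v c) = Q z := fun c => hinv _ _
  have hBv : ∀ c c', c ≠ c' → B (v c) (v c') = 0 := by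
    intro c c' hc
    rw [← hEv c, ← hEv c']
    exact D.orth hb hBinv hc _ _
  have hE0 : ∀ c c', c ≠ c' → E χ M c *ᵥ v c' = 0 := by
    intro c c' hc
    rw [← hEv c', Matrix.mulVec_mulVec, E_mul_E (ι := ι) D.pair D.hM hc, Matrix.zero_mulVec]
  have hv0 : ∀ c, v c ≠ 0 := by
    intro c h0
    apply hz0
    have h1 : ((ρ (g c)⁻¹ : GL ι F) : Matrix ι ι F) *ᵥ v c = z := by
      simp only [hv]
      rw [Matrix.mulVec_mulVec, ← Units.val_mul, ← map_mul, inv_mul_cancel, map_one, Units.val_one, Matrix.one_mulVec]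
    rw [← h1, h0, Matrix.mulVec_zero]
  have hQz0 : Q 0 = 0 := by
    have := hQ.smul 0 0
    rw [zero_smul] at this
    rw [this]; ring
  have hQsum : ∀ (s : Finset K) (x : K → F), Q (∑ c ∈ s, x c • v c) = (∑ c ∈ s, x c ^ 2) * Q z := by
    intro s x
    induction s using Finset.induction_on with
    | empty => rw [Finset.sum_empty, Finset.sum_empty, hQz0, zero_mul]
    | insert c s hc ih =>
      rw [Finset.sum_insert hc, Finset.sum_insert hc, hQadd, ih, hQ.smul, hQv]
      have h3 : ∀ (t : Finset K), c ∉ t → B (x c • v c) (∑ d ∈ t, x d • v d) = 0 := by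
        intro t
        induction t using Finset.induction_on with
        | empty =>
          intro _
          rw [Finset.sum_empty]
          have := hb.smul_right 0 (x c • v c) 0
          rw [zero_mul, zero_smul] at this
          exact this
        | insert d t hd ih' =>
          intro hcd
          rw [Finset.sum_insert hd, hb.add_right, hb.smul_left, hb.smul_right,
            hBv c d (fun h => hcd (h ▸ Finset.mem_insert_self _ _)), mul_zero, mul_zero, zero_add]
          exact ih' fun h => hcd (Finset.mem_insert_of_mem h)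
      rw [h3 s hc]
      ring
  obtain ⟨α, β, hαβ⟩ := Cfsg.Agent.Lib.PSL2Torus.exists_sum_sq D.two (-1 : F)
  -- an enumeration of the field
  have en : Fin 8 ≃ K := (Fintype.equivFinOfCardEq hK).symm
  let x : (Fin 4 → F) → K → F := fun t c =>
    ![t 0, t 1, α * t 0 - β * t 1, β * t 0 + α * t 1, t 2, t 3, α * t 2 - β * t 3, β * t 2 + α * t 3] (en.symm c)
  have hxadd : ∀ s t c, x (s + t) c = x s c + x t c := by
    intro s t c
    obtain ⟨i, rfl⟩ := en.surjective c
    simp only [x, Equiv.symm_apply_apply]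
    (revert i; simp only [_root_.Fin.forall_fin_succ, _root_.Nat.succ_eq_add_one, Nat.reduceAdd, Fin.isValue, _root_.Pi.add_apply, _root_.Matrix.cons_val_zero, _root_.Matrix.cons_val_succ, _root_.Matrix.cons_val_fin_one, _root_.forall_const, _root_.true_and]) <;> (repeat' with_reducible apply And.intro) <;> ring
  have hxsmul : ∀ (r : F) t c, x (r • t) c = r * x t c := by
    intro r t c
    obtain ⟨i, rfl⟩ := en.surjective c
    simp only [x, Equiv.symm_apply_apply]
    (revert i; simp only [_root_.Fin.forall_fin_succ, _root_.Nat.succ_eq_add_one, Nat.reduceAdd, Fin.isValue, _root_.Pi.smul_apply, _root_.smul_eq_mul, _root_.Matrix.cons_val_zero, _root_.Matrix.cons_val_succ, _root_.Matrix.cons_val_fin_one, _root_.forall_const, _root_.true_and]) <;> (repeat' with_reducible apply And.intro) <;> ring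
  let L : (Fin 4 → F) →ₗ[F] (ι → F) :=
    { toFun := fun t => ∑ c, x t c • v c
      map_add' := fun s t => by
        rw [← Finset.sum_add_distrib]
        apply Finset.sum_congr rfl
        intro c _
        rw [hxadd, add_smul]
      map_smul' := fun r t => by
        rw [RingHom.id_apply, Finset.smul_sum]
        apply Finset.sum_congr rfl
        intro c _
        rw [hxsmul, mul_smul] }
  have hL : ∀ t, L t = ∑ c, x t c • v c := fun t => rfl
  have hEL : ∀ t c, E χ M c *ᵥ L t = x t c • v c := by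
    intro t c
    rw [hL, Matrix.mulVec_sum, Finset.sum_eq_single c]
    · rw [Matrix.mulVec_smul, hEv]
    · intro d _ hd
      rw [Matrix.mulVec_smul, hE0 c d hd.symm, smul_zero]
    · intro hn
      exact absurd (Finset.mem_univ _) hn
  have hLinj : Function.Injective L := by
    rw [← LinearMap.ker_eq_bot, LinearMap.ker_eq_bot']
    intro t ht
    have h1 : ∀ c, x t c = 0 := by
      intro c
      have h3 := hEL t c
      rw [ht, Matrix.mulVec_zero] at h3
      exact (smul_eq_zero.1 h3.symm).resolve_right (hv0 c)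
    funext i
    have h3 := h1 (en 0)
    have h4 := h1 (en 1)
    have h5 := h1 (en 4)
    have h6 := h1 (en 5)
    simp only [x, Equiv.symm_apply_apply] at h3 h4 h5 h6
    fin_cases i
    · exact h3
    · exact h4
    · exact h5
    · exact h6
  refine ⟨LinearMap.range L, le_top, ?_, ?_⟩
  · rintro w ⟨t, rfl⟩
    rw [hL, hQsum, ← Equiv.sum_comp en]
    simp only [x, Equiv.symm_apply_apply]
    have : ∑ i : Fin 8, (![t 0, t 1, α * t 0 - β * t 1, β * t 0 + α * t 1, t 2, t 3, α * t 2 - β * t 3, β * t 2 + α * t 3] i) ^ 2 =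
        (t 0 ^ 2 + t 1 ^ 2 + t 2 ^ 2 + t 3 ^ 2) * (α ^ 2 + β ^ 2 + 1) := by
      rw [Fin.sum_univ_eight]
      simp only [_root_.Nat.succ_eq_add_one, _root_.Nat.reduceAdd, _root_.Fin.isValue, _root_.Matrix.cons_val_zero, _root_.Matrix.cons_val_one, _root_.Matrix.cons_val]
      ring
    rw [this, hαβ]
    ring
  · rw [LinearMap.finrank_range_of_inj hLinj, finrank_top, Module.finrank_fintype_fun_eq_card,
      Module.finrank_fintype_fun_eq_card, Fintype.card_fin, D.card]

end forms

end Cfsg.Agent.H814.Sz8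
end

-- part: H814/SzEightCore
section
/-!
# Cores with socle `Sz(8)` in degree at most 12, odd characteristic (helper814, T13 of LOWDIM)

Degree 8, self-dual, no alternating form, every invariant quadratic form has plus type.
-/

set_option autoImplicit false

namespace Cfsg.Agent.H814.Sz8

open Subgroup Matrix Cfsg.Agent.H915.LD Cfsg.Agent.LieRecognition.SzMatrix

universe u v

/-- a core gives a `PRep` if the scalars have square one -/
theorem prep_of_core {ι : Type} [Fintype ι] [DecidableEq ι] {F : Type u} [Field F] [Finite F]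
    {P : Subgroup (GL ι F)} (hC : Core P) {T : Type v} [Group T] (e : Soc P ≃* T)
    (hsq : ∀ z ∈ (Cfsg.Geo.scalars ι F).subgroupOf P, z * z = 1) :
    PRep (e.toMonoidHom.comp (toSoc P)) P.subtype := by
  refine ⟨e.surjective.comp (toSoc_surjective P), P.subtype_injective, ?_, hC.nonempty⟩
  intro k hk
  have h1 : k ∈ (Cfsg.Geo.scalars ι F).subgroupOf P := by
    rw [← ker_comp e]
    exact hk
  have h2 := hsq k h1
  rw [Subgroup.mem_subgroupOf, Cfsg.Geo.mem_scalars_iff] at h1
  obtain ⟨c, hc⟩ := h1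
  refine ⟨c, ?_, hc⟩
  have h3 := congrArg (fun g : P => ((g : GL ι F) : Matrix ι ι F)) h2
  simp only [Subgroup.coe_mul, Units.val_mul, Subgroup.coe_one, Units.val_one] at h3
  rw [hc, Matrix.smul_mul, Matrix.one_mul, smul_smul] at h3
  obtain ⟨i⟩ := hC.nonempty
  have h4 := congrFun (congrFun h3 i) i
  simpa only [_root_.Matrix.smul_apply, _root_.Matrix.one_apply_eq, _root_.smul_eq_mul, _root_.mul_one] using h4

/-- **Cores with socle `Sz(8)`.** -/
theorem core_sz8 {ι : Type} [Fintype ι] [DecidableEq ι] {F : Type u} [Field F] [Finite F]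
    {P : Subgroup (GL ι F)} (hC : Core P) (h2 : (2 : F) ≠ 0) (hn : Fintype.card ι ≤ 12) (hT : H912.Bd.IsSz8 (Soc P)) :
    Fintype.card ι = 8 ∧ SD P ∧ ¬ FixA P ∧ FixQ P ∧
      ∀ Q : (ι → F) → F, Cfsg.Geo.IsNondegenerateQuadraticForm Q → Cfsg.Geo.FixesQuadForm (Cfsg.Geo.matrixSet P) Q →
        Cfsg.Geo.IsPlusTypeOn Q ⊤ := by
  obtain ⟨K, iK, iKf, hK, ⟨e⟩⟩ := hT
  have hK' : Fintype.card K = 2 ^ (2 * 1 + 1) := hK
  have hmult : Cfsg.HasSchurMultiplier ↥(Cfsg.Lie.Sz K 4) (Multiplicative (ZMod 2 × ZMod 2)) := S2112.result hK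
  have hsq : ∀ z ∈ (Cfsg.Geo.scalars ι F).subgroupOf P, z * z = 1 := by
    intro z hz
    obtain ⟨f, hf⟩ := H95.StemCover.exists_surj_ker hmult hC.commutator_top (e.toMonoidHom.comp (toSoc P))
      (e.surjective.comp (toSoc_surjective P)) (by rw [ker_comp e]; exact scalars_le_center)
    have hz' : z ∈ (e.toMonoidHom.comp (toSoc P)).ker := by rw [ker_comp e]; exact hz
    obtain ⟨a, ha⟩ := hf ⟨z, hz'⟩
    have h3 : a * a = 1 := by
      revert a
      have : ∀ a : Multiplicative (ZMod 2 × ZMod 2), a * a = 1 := by decide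
      intro a _
      exact this a
    have h4 := congrArg f h3
    rw [map_mul, map_one, ha] at h4
    exact congrArg Subtype.val h4
  have R := prep_of_core hC e hsq
  obtain ⟨ψ, Y, m, D⟩ := exists_data (good hK') R hK h2 hn
  have hreal : H147.Sz.Real (good hK') := H147.Sz.real le_rfl hK'
  have hSD : SD P := fun g hg => D.trace_inv R hreal ⟨g, hg⟩
  have hnA : ¬ FixA P := by
    rintro ⟨f, hf, hfix⟩
    exact D.not_symplectic hf fun g u v => hfix _ ⟨(g : GL ι F), g.2, rfl⟩ u v
  refine ⟨D.card, hSD, hnA, (hC.forms_of_sd hSD).resolve_right hnA, fun Q hQ hfix => ?_⟩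
  exact D.plus R hK hQ fun g v => hfix _ ⟨(g : GL ι F), g.2, rfl⟩ v

end Cfsg.Agent.H814.Sz8
end

private theorem dce_1ae1fda672a8 : _root_.True := by
  try have : _root_.True := by simp only [_root_.Cfsg.Agent.H814.Wt.E.eq_1]
  exact _root_.True.intro
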